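import Groth.Agent.GrassX.Yoneda
import Mathlib.Algebra.Category.CommAlgCat.Basic
import Mathlib.AlgebraicGeometry.AffineScheme
import Mathlib.CategoryTheory.Comma.Over.Basic

/-!
# Morphisms over an affine base from natural maps on algebra-valued points
-/

set_option autoImplicit false

universe u

open CategoryTheory Limits AlgebraicGeometry

namespace Groth.Agent.GrassX

variable {R : Type u} [CommRing R]

/-- The base point of an `R`-algebra. -/
noncomputable abbrev bpt (A : CommAlgCat.{u} R) : Over (Spec (CommRingCat.of R)) :=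
  Over.mk (Spec.map (CommRingCat.ofHom (algebraMap R A)))

/-- The algebra structure of a point of `Spec R`. -/
@[reducible] noncomputable def algOf {A : CommRingCat.{u}} (a : Spec A ⟶ Spec (CommRingCat.of R)) : Algebra R A :=
  (Spec.preimage a).hom.toAlgebra

theorem algOf_map {A : CommRingCat.{u}} (a : Spec A ⟶ Spec (CommRingCat.of R)) :
    letI := algOf a
    Spec.map (CommRingCat.ofHom (algebraMap R A)) = a := by
  letI := algOf a
  rw [RingHom.algebraMap_toAlgebra, CommRingCat.ofHom_hom, Spec.map_preimage]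

variable {X Y : Over (Spec (CommRingCat.of R))}

/-- Turn a point of the underlying scheme into a point over the base. -/
noncomputable def mkPt {A : CommAlgCat.{u} R} (a : Spec (CommRingCat.of A) ⟶ X.left)
    (h : a ≫ X.hom = Spec.map (CommRingCat.ofHom (algebraMap R A))) : bpt A ⟶ X :=
  Over.homMk a h

@[simp] theorem mkPt_left {A : CommAlgCat.{u} R} (a : Spec (CommRingCat.of A) ⟶ X.left) (h) :
    (mkPt (A := A) a h).left = a := rfl

theorem overHom_ext {c c' : Y ⟶ X}
    (h : ∀ (A : CommAlgCat.{u} R) (g : bpt A ⟶ Y), g.left ≫ c.left = g.left ≫ c'.left) : c = c' := by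
  refine Over.OverMorphism.ext (hom_ext_pt fun A a => ?_)
  letI := algOf (a ≫ Y.hom)
  exact h (CommAlgCat.of R A) (mkPt a (algOf_map _).symm)

theorem exists_overHom (F : ∀ A : CommAlgCat.{u} R, (bpt A ⟶ Y) → (bpt A ⟶ X))
    (hF : ∀ (A B : CommAlgCat.{u} R) (φ : A ⟶ B) (g : bpt A ⟶ Y) (g' : bpt B ⟶ Y),
      g'.left = Spec.map (CommRingCat.ofHom φ.hom.toRingHom) ≫ g.left →
        (F B g').left = Spec.map (CommRingCat.ofHom φ.hom.toRingHom) ≫ (F A g).left) :
    ∃ c : Y ⟶ X, ∀ (A : CommAlgCat.{u} R) (g : bpt A ⟶ Y), g ≫ c = F A g := by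
  let app : ∀ {A : CommRingCat.{u}}, (Spec A ⟶ Y.left) → (Spec A ⟶ X.left) := fun {A} a =>
    letI := algOf (a ≫ Y.hom)
    (F (CommAlgCat.of R A) (mkPt a (algOf_map _).symm)).left
  have congrF : ∀ (A : Type u) (j : CommRing A) (i₁ i₂ : Algebra R A)
      (g₁ : bpt (@CommAlgCat.of R _ A j i₁) ⟶ Y) (g₂ : bpt (@CommAlgCat.of R _ A j i₂) ⟶ Y), i₁ = i₂ →
      g₁.left = g₂.left → (F _ g₁).left = (F _ g₂).left := by
    intro A j i₁ i₂ g₁ g₂ hi hg
    subst hi
    rw [Over.OverMorphism.ext hg]
  have key : ∀ (A : CommAlgCat.{u} R) (g : bpt A ⟶ Y), app (A := CommRingCat.of A) g.left = (F A g).left := by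
    intro A g
    refine congrF A A.commRing (algOf (A := CommRingCat.of A) (g.left ≫ Y.hom)) A.algebra _ g ?_ rfl
    refine Algebra.algebra_ext _ _ fun r => ?_
    show (Spec.preimage (g.left ≫ Y.hom)).hom r = _
    rw [show g.left ≫ Y.hom = Spec.map (CommRingCat.ofHom (algebraMap R A)) from Over.w g, Spec.preimage_map]
    rfl
  have nat : ∀ {A B : CommRingCat.{u}} (φ : A ⟶ B) (a : Spec A ⟶ Y.left), app (Spec.map φ ≫ a) = Spec.map φ ≫ app a := by
    intro A B φ a
    letI algA := algOf (a ≫ Y.hom)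
    letI algB := algOf ((Spec.map φ ≫ a) ≫ Y.hom)
    let ψ : CommAlgCat.of R A ⟶ CommAlgCat.of R B := CommAlgCat.ofHom
      { toRingHom := φ.hom
        commutes' := fun r => by
          show φ.hom ((Spec.preimage (a ≫ Y.hom)).hom r) = (Spec.preimage ((Spec.map φ ≫ a) ≫ Y.hom)).hom r
          rw [Category.assoc, Spec.preimage_comp, Spec.preimage_map]
          rfl }
    exact hF _ _ ψ (mkPt a (algOf_map _).symm) (mkPt _ (algOf_map _).symm) rfl
  obtain ⟨f, hf⟩ := PtMap.exists_hom ({ app := app, nat := nat } : PtMap Y.left X.left)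
  have hw : f ≫ X.hom = Y.hom := hom_ext_pt fun A a => by
    letI := algOf (a ≫ Y.hom)
    rw [← Category.assoc, hf]
    show (F (CommAlgCat.of R A) (mkPt a (algOf_map _).symm)).left ≫ X.hom = _
    rw [Over.w]
    exact algOf_map (a ≫ Y.hom)
  exact ⟨Over.homMk f hw, fun A g => Over.OverMorphism.ext ((hf _ g.left).trans (key A g))⟩

/-- A morphism over an affine base which is bijective on algebra-valued points is an isomorphism. -/
theorem isIso_of_bijective_pts (c : Y ⟶ X)
    (h : ∀ A : CommAlgCat.{u} R, Function.Bijective fun g : bpt A ⟶ Y => g ≫ c) : IsIso c.left := by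
  choose inv hinv using fun (A : CommAlgCat.{u} R) (g : bpt A ⟶ X) => (h A).2 g
  have hinv' : ∀ (A : CommAlgCat.{u} R) (g : bpt A ⟶ X), inv A g ≫ c = g := hinv
  obtain ⟨d, hd⟩ := exists_overHom (fun A g => inv A g) (fun A B φ g g' hg => by
    have hp : (Spec.map (CommRingCat.ofHom φ.hom.toRingHom) ≫ (inv A g).left) ≫ Y.hom =
        Spec.map (CommRingCat.ofHom (algebraMap R B)) := by
      rw [Category.assoc, Over.w]
      show Spec.map _ ≫ Spec.map (CommRingCat.ofHom (algebraMap R A)) = _
      rw [← Spec.map_comp, ← CommRingCat.ofHom_comp]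
      congr 2
      exact φ.hom.comp_algebraMap
    have : inv B g' = mkPt _ hp := (h B).1 (Over.OverMorphism.ext (by
      show (inv B g' ≫ c).left = (Spec.map _ ≫ (inv A g).left) ≫ c.left
      rw [hinv', hg, Category.assoc, ← Over.comp_left, hinv']))
    rw [this, mkPt_left])
  have h1 : c ≫ d = 𝟙 Y := overHom_ext fun A g => by
    have : g ≫ c ≫ d = g ≫ 𝟙 Y := (h A).1 (by
      show (g ≫ c ≫ d) ≫ c = (g ≫ 𝟙 Y) ≫ c
      rw [← Category.assoc g, hd, hinv', Category.comp_id])
    exact congrArg CommaMorphism.left this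
  have h2 : d ≫ c = 𝟙 X := overHom_ext fun A g => by
    have : g ≫ d ≫ c = g ≫ 𝟙 X := by rw [← Category.assoc, hd, hinv', Category.comp_id]
    exact congrArg CommaMorphism.left this
  exact ⟨d.left, congrArg CommaMorphism.left h1, congrArg CommaMorphism.left h2⟩

end Groth.Agent.GrassX
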