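import Groth.Agent.Synt29.RepOpen
import Groth.Agent.GrassX.OverPt
import Mathlib.AlgebraicGeometry.Gluing

/-!
# A scheme representing a functor on algebras with an atlas of affine charts

The functor is assumed to be a sheaf for the Zariski topology on algebras, the charts to cover it
at field-valued points and the overlaps of the charts to be basic open subsets.
-/

set_option autoImplicit false
set_option backward.isDefEq.respectTransparency false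
set_option linter.style.haveILetI false

universe u

open CategoryTheory CategoryTheory.Limits AlgebraicGeometry
open scoped Pointwise

namespace Groth.Agent.GrassX

open Synt29.RepOpen

variable {R : Type u} [CommRing R]

/-- An atlas of a functor on algebras. -/
structure Atlas (F : CommAlgCat.{u} R ⥤ Type u) where
  /-- The index set. -/
  I : Type u
  /-- The charts. -/
  c : I → Chart F
  /-- The equations of the overlaps. -/
  d : ∀ i, I → (c i).C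
  mem_iff : ∀ i j {A : CommAlgCat.{u} R} (ψ : (c i).C ⟶ A),
    (c j).P A (F.map ψ (c i).univ) ↔ IsUnit (ψ.hom (d i j))
  cover : ∀ (L : CommAlgCat.{u} R), IsField L → ∀ x : F.obj L, ∃ i, (c i).P L x
  sep : ∀ (A : CommAlgCat.{u} R) (s : Set A), Ideal.span s = ⊤ → ∀ x y : F.obj A,
    (∀ h ∈ s, F.map (toAway A h) x = F.map (toAway A h) y) → x = y
  glue : ∀ (A : CommAlgCat.{u} R) (s : Set A), Ideal.span s = ⊤ →
    ∀ x : ∀ h : s, F.obj (CommAlgCat.of R (Localization.Away (h : A))),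
      (∀ (h h' : s) (C : CommAlgCat.{u} R) (φ : CommAlgCat.of R (Localization.Away (h : A)) ⟶ C)
          (φ' : CommAlgCat.of R (Localization.Away (h' : A)) ⟶ C),
          toAway A h ≫ φ = toAway A h' ≫ φ' → F.map φ (x h) = F.map φ' (x h')) →
        ∃ y : F.obj A, ∀ h : s, F.map (toAway A h) y = x h

namespace Atlas

variable {F : CommAlgCat.{u} R ⥤ Type u} (𝒜 : Atlas F)

theorem spOver_injective {A B : CommAlgCat.{u} R} {φ ψ : A ⟶ B} (h : spOver φ = spOver ψ) : φ = ψ := by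
  refine CommAlgCat.hom_ext (AlgHom.coe_ringHom_injective ?_)
  exact congrArg CommRingCat.Hom.hom (Spec.map_injective (congrArg CommaMorphism.left h))

/-- The scheme of a chart. -/
noncomputable abbrev obj (i : 𝒜.I) : Over (Spec (CommRingCat.of R)) := sp (𝒜.c i).C

/-- The element of a point of a chart. -/
noncomputable def el {A : CommAlgCat.{u} R} (i : 𝒜.I) (l : sp A ⟶ 𝒜.obj i) : F.obj A :=
  F.map (exists_spMap l).choose (𝒜.c i).univ

theorem el_spOver {A : CommAlgCat.{u} R} (i : 𝒜.I) (φ : (𝒜.c i).C ⟶ A) :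
    𝒜.el i (spOver φ) = F.map φ (𝒜.c i).univ := by
  rw [el, spOver_injective (exists_spMap (spOver φ)).choose_spec.symm]

theorem el_comp {A B : CommAlgCat.{u} R} (i : 𝒜.I) (χ : A ⟶ B) (l : sp A ⟶ 𝒜.obj i) :
    𝒜.el i (spOver χ ≫ l) = F.map χ (𝒜.el i l) := by
  obtain ⟨φ, rfl⟩ := exists_spMap l
  rw [← spOver_comp, el_spOver, el_spOver, FunctorToTypes.map_comp_apply]

theorem el_mem {A : CommAlgCat.{u} R} (i : 𝒜.I) (l : sp A ⟶ 𝒜.obj i) : (𝒜.c i).P A (𝒜.el i l) :=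
  (𝒜.c i).map_mem _ (𝒜.c i).mem_univ

theorem el_injective {A : CommAlgCat.{u} R} (i : 𝒜.I) {l l' : sp A ⟶ 𝒜.obj i}
    (h : 𝒜.el i l = 𝒜.el i l') : l = l' := by
  obtain ⟨φ, rfl⟩ := exists_spMap l
  obtain ⟨φ', rfl⟩ := exists_spMap l'
  rw [el_spOver, el_spOver] at h
  rw [((𝒜.c i).lift ((𝒜.c i).map_mem φ' (𝒜.c i).mem_univ)).unique h rfl]

theorem exists_el_eq {A : CommAlgCat.{u} R} (i : 𝒜.I) {x : F.obj A} (h : (𝒜.c i).P A x) :
    ∃ l : sp A ⟶ 𝒜.obj i, 𝒜.el i l = x := by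
  obtain ⟨φ, hφ, -⟩ := (𝒜.c i).lift h
  exact ⟨spOver φ, (𝒜.el_spOver i φ).trans hφ⟩

/-- The overlaps. -/
noncomputable abbrev ov (i j : 𝒜.I) : Over (Spec (CommRingCat.of R)) :=
  sp (CommAlgCat.of R (Localization.Away (𝒜.d i j)))

/-- The inclusion of an overlap. -/
noncomputable abbrev fo (i j : 𝒜.I) : 𝒜.ov i j ⟶ 𝒜.obj i := spOver (toAway _ (𝒜.d i j))

instance isOpenImmersion_fo (i j : 𝒜.I) : IsOpenImmersion (𝒜.fo i j).left :=
  IsOpenImmersion.of_isLocalization (S := Localization.Away (𝒜.d i j)) (𝒜.d i j)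

theorem comp_fo_mem {A : CommAlgCat.{u} R} (i j : 𝒜.I) (g : sp A ⟶ 𝒜.ov i j) :
    (𝒜.c j).P A (𝒜.el i (g ≫ 𝒜.fo i j)) := by
  obtain ⟨φ, rfl⟩ := exists_spMap g
  rw [fo, ← spOver_comp, el_spOver, 𝒜.mem_iff]
  exact (IsLocalization.Away.algebraMap_isUnit (S := Localization.Away (𝒜.d i j)) (𝒜.d i j)).map φ.hom

theorem exists_fac {A : CommAlgCat.{u} R} (i j : 𝒜.I) (l : sp A ⟶ 𝒜.obj i)
    (h : (𝒜.c j).P A (𝒜.el i l)) : ∃ g : sp A ⟶ 𝒜.ov i j, g ≫ 𝒜.fo i j = l := by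
  obtain ⟨φ, rfl⟩ := exists_spMap l
  rw [el_spOver, 𝒜.mem_iff] at h
  let ψ : Localization.Away (𝒜.d i j) →ₐ[R] A :=
    IsLocalization.liftAlgHom (M := Submonoid.powers (𝒜.d i j)) (f := φ.hom)
      (fun y => by obtain ⟨k, hk⟩ := y.2; rw [← hk, map_pow]; exact h.pow k)
  refine ⟨spOver (CommAlgCat.ofHom ψ), ?_⟩
  rw [fo, ← spOver_comp]
  exact congrArg spOver (CommAlgCat.hom_ext (AlgHom.ext fun x => IsLocalization.lift_eq _ _))

theorem exists_fac_el {A : CommAlgCat.{u} R} (i j : 𝒜.I) {x : F.obj A} (hi : (𝒜.c i).P A x)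
    (hj : (𝒜.c j).P A x) : ∃ g : sp A ⟶ 𝒜.ov i j, 𝒜.el i (g ≫ 𝒜.fo i j) = x := by
  obtain ⟨l, hl⟩ := 𝒜.exists_el_eq i hi
  obtain ⟨g, rfl⟩ := 𝒜.exists_fac i j l (hl ▸ hj)
  exact ⟨g, hl⟩

theorem ov_hom_ext {W : Over (Spec (CommRingCat.of R))} (i j : 𝒜.I) {a b : W ⟶ 𝒜.ov i j}
    (h : ∀ (A : CommAlgCat.{u} R) (g : bpt A ⟶ W),
      𝒜.el i ((g ≫ a) ≫ 𝒜.fo i j) = 𝒜.el i ((g ≫ b) ≫ 𝒜.fo i j)) : a = b := by
  refine overHom_ext fun A g => ?_
  have h1 := congrArg CommaMorphism.left (𝒜.el_injective i (h A g))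
  simp only [Over.comp_left, cancel_mono] at h1
  exact h1

theorem exists_trans (i j : 𝒜.I) : ∃ t : 𝒜.ov i j ⟶ 𝒜.ov j i,
    ∀ (A : CommAlgCat.{u} R) (g : bpt A ⟶ 𝒜.ov i j),
      𝒜.el j ((g ≫ t) ≫ 𝒜.fo j i) = 𝒜.el i (g ≫ 𝒜.fo i j) := by
  choose G hG using fun (A : CommAlgCat.{u} R) (g : bpt A ⟶ 𝒜.ov i j) =>
    𝒜.exists_fac_el j i (𝒜.comp_fo_mem i j g) (𝒜.el_mem i (g ≫ 𝒜.fo i j))
  obtain ⟨t, ht⟩ := exists_overHom G (fun A B φ g g' hg => by
    have hg' : g' = spOver φ ≫ g := Over.OverMorphism.ext hg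
    have h1 : G B g' ≫ 𝒜.fo j i = (spOver φ ≫ G A g) ≫ 𝒜.fo j i := 𝒜.el_injective j (by
      rw [Category.assoc, el_comp, hG, hG, hg', Category.assoc, el_comp])
    have h2 := congrArg CommaMorphism.left h1
    simp only [Over.comp_left, cancel_mono] at h2
    exact h2)
  exact ⟨t, fun A g => by rw [ht]; exact hG A g⟩

/-- The transition maps. -/
noncomputable def trans (i j : 𝒜.I) : 𝒜.ov i j ⟶ 𝒜.ov j i := (𝒜.exists_trans i j).choose

theorem el_trans {A : CommAlgCat.{u} R} (i j : 𝒜.I) (g : sp A ⟶ 𝒜.ov i j) :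
    𝒜.el j ((g ≫ 𝒜.trans i j) ≫ 𝒜.fo j i) = 𝒜.el i (g ≫ 𝒜.fo i j) :=
  (𝒜.exists_trans i j).choose_spec A g

theorem trans_self (i : 𝒜.I) : 𝒜.trans i i = 𝟙 _ :=
  𝒜.ov_hom_ext i i fun A g => by rw [el_trans, Category.comp_id]

theorem isIso_fo_self (i : 𝒜.I) : IsIso (𝒜.fo i i).left := by
  have h := (𝒜.mem_iff i i (𝟙 (𝒜.c i).C)).1 (by rw [FunctorToTypes.map_id_apply]; exact (𝒜.c i).mem_univ)
  let e := IsLocalization.atUnits (𝒜.c i).C (Submonoid.powers (𝒜.d i i)) (S := Localization.Away (𝒜.d i i))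
    (by rintro _ ⟨k, rfl⟩; exact h.pow k)
  have : IsIso (CommRingCat.ofHom (toAway (𝒜.c i).C (𝒜.d i i)).hom.toRingHom) :=
    (ConcreteCategory.isIso_iff_bijective _).2 e.bijective
  show IsIso (Spec.map (CommRingCat.ofHom (toAway (𝒜.c i).C (𝒜.d i i)).hom.toRingHom))
  infer_instance

/-- The triple overlaps. -/
noncomputable abbrev ov3 (i j k : 𝒜.I) : Over (Spec (CommRingCat.of R)) :=
  Over.mk (pullback.fst (𝒜.fo i j).left (𝒜.fo i k).left ≫ (𝒜.ov i j).hom)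

/-- The first projection of a triple overlap. -/
noncomputable abbrev pr₁ (i j k : 𝒜.I) : 𝒜.ov3 i j k ⟶ 𝒜.ov i j :=
  Over.homMk (pullback.fst (𝒜.fo i j).left (𝒜.fo i k).left)

/-- The second projection of a triple overlap. -/
noncomputable abbrev pr₂ (i j k : 𝒜.I) : 𝒜.ov3 i j k ⟶ 𝒜.ov i k :=
  Over.homMk (pullback.snd (𝒜.fo i j).left (𝒜.fo i k).left) (by
    show _ ≫ (𝒜.ov i k).hom = pullback.fst _ _ ≫ (𝒜.ov i j).hom
    rw [← Over.w (𝒜.fo i j), ← Over.w (𝒜.fo i k), ← Category.assoc, ← Category.assoc, pullback.condition])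

theorem pr_fo (i j k : 𝒜.I) : 𝒜.pr₁ i j k ≫ 𝒜.fo i j = 𝒜.pr₂ i j k ≫ 𝒜.fo i k :=
  Over.OverMorphism.ext pullback.condition

theorem ov3_hom_ext {W : Over (Spec (CommRingCat.of R))} (i j k : 𝒜.I) {a b : W ⟶ 𝒜.ov3 i j k}
    (h : ∀ (A : CommAlgCat.{u} R) (g : bpt A ⟶ W),
      𝒜.el i (((g ≫ a) ≫ 𝒜.pr₁ i j k) ≫ 𝒜.fo i j) = 𝒜.el i (((g ≫ b) ≫ 𝒜.pr₁ i j k) ≫ 𝒜.fo i j)) :
    a = b := by
  have h1 : a ≫ 𝒜.pr₁ i j k = b ≫ 𝒜.pr₁ i j k := 𝒜.ov_hom_ext i j fun A g => by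
    rw [← Category.assoc g, ← Category.assoc g]; exact h A g
  have h1' := congrArg CommaMorphism.left h1
  refine Over.OverMorphism.ext (pullback.hom_ext h1' ?_)
  rw [← cancel_mono (𝒜.fo i k).left, Category.assoc, Category.assoc, ← pullback.condition]
  exact congrArg (· ≫ (𝒜.fo i j).left) h1' |> fun h2 => (Category.assoc _ _ _).symm.trans (h2.trans (Category.assoc _ _ _))

theorem exists_trans3 (i j k : 𝒜.I) : ∃ t : 𝒜.ov3 i j k ⟶ 𝒜.ov3 j k i,
    ∀ (A : CommAlgCat.{u} R) (g : bpt A ⟶ 𝒜.ov3 i j k),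
      𝒜.el j (((g ≫ t) ≫ 𝒜.pr₁ j k i) ≫ 𝒜.fo j k) = 𝒜.el i ((g ≫ 𝒜.pr₁ i j k) ≫ 𝒜.fo i j) := by
  have H : ∀ (A : CommAlgCat.{u} R) (g : bpt A ⟶ 𝒜.ov3 i j k), ∃ g' : bpt A ⟶ 𝒜.ov3 j k i,
      𝒜.el j ((g' ≫ 𝒜.pr₁ j k i) ≫ 𝒜.fo j k) = 𝒜.el i ((g ≫ 𝒜.pr₁ i j k) ≫ 𝒜.fo i j) := by
    intro A g
    have hk : (𝒜.c k).P A (𝒜.el i ((g ≫ 𝒜.pr₁ i j k) ≫ 𝒜.fo i j)) := by
      rw [Category.assoc, pr_fo, ← Category.assoc]
      exact 𝒜.comp_fo_mem i k _
    obtain ⟨a, ha⟩ := 𝒜.exists_fac_el j k (𝒜.comp_fo_mem i j (g ≫ 𝒜.pr₁ i j k)) hk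
    obtain ⟨b, hb⟩ := 𝒜.exists_fac_el j i (𝒜.comp_fo_mem i j (g ≫ 𝒜.pr₁ i j k)) (𝒜.el_mem i _)
    have hab : a ≫ 𝒜.fo j k = b ≫ 𝒜.fo j i := 𝒜.el_injective j (ha.trans hb.symm)
    refine ⟨Over.homMk (pullback.lift a.left b.left (congrArg CommaMorphism.left hab)) (by
      show pullback.lift _ _ _ ≫ pullback.fst _ _ ≫ _ = _
      rw [pullback.lift_fst_assoc]
      exact Over.w a), ?_⟩
    refine Eq.trans (congrArg (fun t => 𝒜.el j (t ≫ 𝒜.fo j k)) ?_) ha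
    exact Over.OverMorphism.ext (pullback.lift_fst _ _ _)
  choose G hG using H
  obtain ⟨t, ht⟩ := exists_overHom G (fun A B φ g g' hg => by
    have hg' : g' = spOver φ ≫ g := Over.OverMorphism.ext hg
    have h1 : G B g' = spOver φ ≫ G A g := by
      refine 𝒜.ov3_hom_ext (W := bpt B) j k i fun C χ => ?_
      obtain ⟨χ, rfl⟩ := exists_spMap χ
      simp only [Category.assoc, el_comp]
      congr 1
      have e1 := hG B g'
      have e2 := hG A g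
      simp only [Category.assoc] at e1 e2
      rw [e1, e2, hg', Category.assoc, el_comp]
    rw [h1]
    rfl)
  exact ⟨t, fun A g => by rw [ht]; exact hG A g⟩

/-- The transition maps of the triple overlaps. -/
noncomputable def trans3 (i j k : 𝒜.I) : 𝒜.ov3 i j k ⟶ 𝒜.ov3 j k i := (𝒜.exists_trans3 i j k).choose

theorem el_trans3 {A : CommAlgCat.{u} R} (i j k : 𝒜.I) (g : sp A ⟶ 𝒜.ov3 i j k) :
    𝒜.el j (((g ≫ 𝒜.trans3 i j k) ≫ 𝒜.pr₁ j k i) ≫ 𝒜.fo j k) = 𝒜.el i ((g ≫ 𝒜.pr₁ i j k) ≫ 𝒜.fo i j) :=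
  (𝒜.exists_trans3 i j k).choose_spec A g

theorem trans3_fac (i j k : 𝒜.I) : 𝒜.trans3 i j k ≫ 𝒜.pr₂ j k i = 𝒜.pr₁ i j k ≫ 𝒜.trans i j :=
  𝒜.ov_hom_ext j i fun A g => by
    rw [← Category.assoc g, ← Category.assoc g, el_trans, Category.assoc _ (𝒜.pr₂ j k i), ← pr_fo,
      ← Category.assoc, el_trans3]

theorem trans3_cocycle (i j k : 𝒜.I) : 𝒜.trans3 i j k ≫ 𝒜.trans3 j k i ≫ 𝒜.trans3 k i j = 𝟙 _ :=
  𝒜.ov3_hom_ext i j k fun A g => by
    rw [← Category.assoc g, ← Category.assoc (g ≫ 𝒜.trans3 i j k), el_trans3, el_trans3, el_trans3,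
      Category.comp_id]

/-- The glueing data. -/
noncomputable def glueData : Scheme.GlueData.{u} where
  J := 𝒜.I
  U i := (𝒜.obj i).left
  V p := (𝒜.ov p.1 p.2).left
  f i j := (𝒜.fo i j).left
  f_id i := 𝒜.isIso_fo_self i
  t i j := (𝒜.trans i j).left
  t_id i := by rw [𝒜.trans_self i]; rfl
  t' i j k := (𝒜.trans3 i j k).left
  t_fac i j k := congrArg CommaMorphism.left (𝒜.trans3_fac i j k)
  cocycle i j k := congrArg CommaMorphism.left (𝒜.trans3_cocycle i j k)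
  f_open i j := 𝒜.isOpenImmersion_fo i j

theorem exists_over {T : Scheme.{u}} (i j : 𝒜.I) (a : T ⟶ (𝒜.obj i).left) (b : T ⟶ (𝒜.obj j).left)
    (h : a ≫ (𝒜.glueData).ι i = b ≫ (𝒜.glueData).ι j) :
    ∃ k : T ⟶ (𝒜.ov i j).left, k ≫ (𝒜.fo i j).left = a ∧ k ≫ (𝒜.trans i j ≫ 𝒜.fo j i).left = b := by
  obtain ⟨k, hk₁, hk₂⟩ := PullbackCone.IsLimit.lift' ((𝒜.glueData).vPullbackConeIsLimit i j) a b h
  exact ⟨k, hk₁, hk₂⟩

theorem exists_structMap : ∃ p : (𝒜.glueData).glued ⟶ Spec (CommRingCat.of R),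
    ∀ i, (𝒜.glueData).ι i ≫ p = (𝒜.obj i).hom := by
  refine ⟨(𝒜.glueData).openCover.glueMorphisms (fun i => (𝒜.obj i).hom) (fun i j => ?_), fun i =>
    Scheme.Cover.ι_glueMorphisms (𝒜.glueData).openCover _ _ i⟩
  obtain ⟨k, hk₁, hk₂⟩ := 𝒜.exists_over i j _ _ (pullback.condition (f := (𝒜.glueData).ι i) (g := (𝒜.glueData).ι j))
  refine Eq.trans (congrArg (· ≫ (𝒜.obj i).hom) hk₁.symm) (Eq.trans ?_ (congrArg (· ≫ (𝒜.obj j).hom) hk₂))
  rw [Category.assoc, Category.assoc, Over.w, Over.w]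

/-- The glued scheme over the base. -/
noncomputable def scheme : Over (Spec (CommRingCat.of R)) := Over.mk 𝒜.exists_structMap.choose

/-- The charts of the glued scheme. -/
noncomputable def incl (i : 𝒜.I) : 𝒜.obj i ⟶ 𝒜.scheme :=
  Over.homMk ((𝒜.glueData).ι i) (𝒜.exists_structMap.choose_spec i)

theorem isOpenImmersion_incl (i : 𝒜.I) : IsOpenImmersion (𝒜.incl i).left :=
  inferInstanceAs (IsOpenImmersion ((𝒜.glueData).ι i))

theorem incl_jointly_surjective (x : 𝒜.scheme.left) : ∃ i y, (𝒜.incl i).left y = x :=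
  (𝒜.glueData).ι_jointly_surjective x

theorem el_eq_of_incl_eq {A : CommAlgCat.{u} R} {i j : 𝒜.I} {l : sp A ⟶ 𝒜.obj i} {l' : sp A ⟶ 𝒜.obj j}
    (h : l ≫ 𝒜.incl i = l' ≫ 𝒜.incl j) : 𝒜.el i l = 𝒜.el j l' := by
  obtain ⟨k, hk₁, hk₂⟩ := 𝒜.exists_over i j l.left l'.left (congrArg CommaMorphism.left h)
  let K : sp A ⟶ 𝒜.ov i j := Over.homMk k (by
    rw [← Over.w (𝒜.fo i j), ← Category.assoc, hk₁]
    exact Over.w l)
  have h1 : K ≫ 𝒜.fo i j = l := Over.OverMorphism.ext hk₁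
  have h2 : (K ≫ 𝒜.trans i j) ≫ 𝒜.fo j i = l' := Over.OverMorphism.ext (by
    rw [← hk₂]
    exact Category.assoc _ _ _)
  rw [← h1, ← h2, el_trans]

theorem incl_eq_of_el_eq {A : CommAlgCat.{u} R} {i j : 𝒜.I} {l : sp A ⟶ 𝒜.obj i} {l' : sp A ⟶ 𝒜.obj j}
    (h : 𝒜.el i l = 𝒜.el j l') : l ≫ 𝒜.incl i = l' ≫ 𝒜.incl j := by
  obtain ⟨k, rfl⟩ := 𝒜.exists_fac i j l (h ▸ 𝒜.el_mem j l')
  have h1 : (k ≫ 𝒜.trans i j) ≫ 𝒜.fo j i = l' := 𝒜.el_injective j (by rw [el_trans]; exact h)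
  rw [← h1]
  simp only [Category.assoc]
  congr 1
  exact (Over.OverMorphism.ext ((𝒜.glueData).glue_condition i j)).symm

theorem exists_chart_cover {A : CommAlgCat.{u} R} (g : sp A ⟶ 𝒜.scheme) :
    ∃ s : Set A, Ideal.span s = ⊤ ∧
      ∀ h ∈ s, ∃ (i : 𝒜.I) (l : sp (CommAlgCat.of R (Localization.Away h)) ⟶ 𝒜.obj i),
        l ≫ 𝒜.incl i = spOver (toAway A h) ≫ g := by
  refine ⟨{h | ∃ (i : 𝒜.I) (l : sp (CommAlgCat.of R (Localization.Away h)) ⟶ 𝒜.obj i),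
      l ≫ 𝒜.incl i = spOver (toAway A h) ≫ g}, ?_, fun h hh => hh⟩
  rw [← PrimeSpectrum.iSup_basicOpen_eq_top_iff']
  refine eq_top_iff.2 fun p _ => ?_
  obtain ⟨i, y, hy⟩ := 𝒜.incl_jointly_surjective (g.left p)
  have := 𝒜.isOpenImmersion_incl i
  obtain ⟨_, ⟨_, ⟨h, rfl⟩, rfl⟩, hph, hsub⟩ := (PrimeSpectrum.isBasis_basic_opens (R := A)).exists_subset_of_mem_open
    (a := p) (u := ((g.left ⁻¹ᵁ (𝒜.incl i).left.opensRange).1 : Set (PrimeSpectrum A))) ⟨y, hy⟩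
    (g.left ⁻¹ᵁ (𝒜.incl i).left.opensRange).2
  refine TopologicalSpace.Opens.mem_iSup.2 ⟨h, TopologicalSpace.Opens.mem_iSup.2 ⟨?_, hph⟩⟩
  have hrange : Set.range (spMap (toAway A h) ≫ g.left) ⊆ Set.range (𝒜.incl i).left := by
    rintro _ ⟨z, rfl⟩
    refine hsub ?_
    have : spMap (toAway A h) z ∈ Set.range (PrimeSpectrum.comap (algebraMap A (Localization.Away h))) := ⟨z, rfl⟩
    rwa [PrimeSpectrum.localization_away_comap_range (Localization.Away h) h] at this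
  exact ⟨i, Over.homMk (IsOpenImmersion.lift _ _ hrange) (by
    rw [← Over.w (𝒜.incl i), IsOpenImmersion.lift_fac_assoc]
    exact Over.w (spOver (toAway A h) ≫ g)), Over.OverMorphism.ext (IsOpenImmersion.lift_fac _ _ _)⟩

/-- An element corresponds to a point. -/
def IsEl {A : CommAlgCat.{u} R} (g : sp A ⟶ 𝒜.scheme) (x : F.obj A) : Prop :=
  ∀ (i : 𝒜.I) (C : CommAlgCat.{u} R) (φ : A ⟶ C) (l : sp C ⟶ 𝒜.obj i),
    l ≫ 𝒜.incl i = spOver φ ≫ g → F.map φ x = 𝒜.el i l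

theorem IsEl.map {A B : CommAlgCat.{u} R} {g : sp A ⟶ 𝒜.scheme} {x : F.obj A} (h : 𝒜.IsEl g x) (φ : A ⟶ B) :
    𝒜.IsEl (spOver φ ≫ g) (F.map φ x) := fun i C ψ l hl => by
  rw [← FunctorToTypes.map_comp_apply]
  exact h i C (φ ≫ ψ) l (by rw [hl, spOver_comp, Category.assoc])

/-- The map of localisations induced by an algebra map. -/
noncomputable def awayHom {A C : CommAlgCat.{u} R} (φ : A ⟶ C) (h : A) :
    CommAlgCat.of R (Localization.Away h) ⟶ CommAlgCat.of R (Localization.Away (φ.hom h)) :=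
  CommAlgCat.ofHom (IsLocalization.liftAlgHom (M := Submonoid.powers h) (f := (φ ≫ toAway C (φ.hom h)).hom)
    (fun y => by
      obtain ⟨k, hk⟩ := y.2
      rw [← hk, map_pow]
      exact (IsLocalization.Away.algebraMap_isUnit (S := Localization.Away (φ.hom h)) (φ.hom h)).pow k))

theorem toAway_awayHom {A C : CommAlgCat.{u} R} (φ : A ⟶ C) (h : A) :
    toAway A h ≫ awayHom φ h = φ ≫ toAway C (φ.hom h) :=
  CommAlgCat.hom_ext (AlgHom.ext fun _ => IsLocalization.lift_eq _ _)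

theorem exists_isEl {A : CommAlgCat.{u} R} (g : sp A ⟶ 𝒜.scheme) : ∃! x, 𝒜.IsEl g x := by
  obtain ⟨s, hs, hl⟩ := 𝒜.exists_chart_cover g
  choose i l hl using hl
  obtain ⟨x, hx⟩ := 𝒜.glue A s hs (fun h => 𝒜.el _ (l h.1 h.2)) (fun h h' C φ φ' hφ => by
    rw [← el_comp, ← el_comp]
    refine 𝒜.el_eq_of_incl_eq ?_
    rw [Category.assoc, Category.assoc, hl h.1 h.2, hl h'.1 h'.2, ← Category.assoc, ← Category.assoc,
      ← spOver_comp, ← spOver_comp, hφ])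
  refine ⟨x, fun j C φ m hm => ?_, fun y hy => ?_⟩
  · refine 𝒜.sep C (φ.hom '' s) ?_ _ _ ?_
    · rw [show (φ.hom '' s : Set C) = φ.hom.toRingHom '' s from rfl, ← Ideal.map_span, hs, Ideal.map_top]
    · rintro _ ⟨h, hh, rfl⟩
      rw [← FunctorToTypes.map_comp_apply, ← toAway_awayHom, FunctorToTypes.map_comp_apply, hx ⟨h, hh⟩,
        ← el_comp, ← el_comp]
      refine 𝒜.el_eq_of_incl_eq ?_
      rw [Category.assoc, Category.assoc, hl h hh, hm, ← Category.assoc, ← Category.assoc,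
        ← spOver_comp, ← spOver_comp, toAway_awayHom]
  · exact 𝒜.sep A s hs _ _ fun h hh =>
      (hy _ _ (toAway A h) _ (hl h hh)).trans (hx ⟨h, hh⟩).symm

/-- The element of a point of the glued scheme. -/
noncomputable def toEl {A : CommAlgCat.{u} R} (g : sp A ⟶ 𝒜.scheme) : F.obj A := (𝒜.exists_isEl g).choose

theorem isEl_toEl {A : CommAlgCat.{u} R} (g : sp A ⟶ 𝒜.scheme) : 𝒜.IsEl g (𝒜.toEl g) :=
  (𝒜.exists_isEl g).choose_spec.1

theorem toEl_comp {A B : CommAlgCat.{u} R} (φ : A ⟶ B) (g : sp A ⟶ 𝒜.scheme) :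
    𝒜.toEl (spOver φ ≫ g) = F.map φ (𝒜.toEl g) :=
  ((𝒜.exists_isEl (spOver φ ≫ g)).choose_spec.2 _ (IsEl.map 𝒜 (𝒜.isEl_toEl g) φ)).symm

theorem hom_ext_of_span {A : CommAlgCat.{u} R} {X : Over (Spec (CommRingCat.of R))} (s : Set A)
    (hs : Ideal.span s = ⊤) {g g' : sp A ⟶ X}
    (h : ∀ a ∈ s, spOver (toAway A a) ≫ g = spOver (toAway A a) ≫ g') : g = g' := by
  refine Over.OverMorphism.ext (Scheme.Cover.hom_ext
    (Scheme.affineOpenCoverOfSpanRangeEqTop (R := CommRingCat.of A) (Subtype.val : s → A)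
      (by rwa [Subtype.range_coe])).openCover _ _ fun a => ?_)
  exact congrArg CommaMorphism.left (h a.1 a.2)

theorem toEl_injective (A : CommAlgCat.{u} R) : Function.Injective (𝒜.toEl (A := A)) := by
  intro g g' h
  obtain ⟨s, hs, hl⟩ := 𝒜.exists_chart_cover g
  obtain ⟨s', hs', hl'⟩ := 𝒜.exists_chart_cover g'
  refine hom_ext_of_span (s * s') (by rw [← Ideal.span_mul_span', hs, hs', Ideal.top_mul]) ?_
  rintro _ ⟨a, ha, b, hb, rfl⟩
  obtain ⟨i, l, hl⟩ := hl a ha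
  obtain ⟨i', l', hl'⟩ := hl' b hb
  have hu : ∀ {x : A}, x ∣ a * b → IsUnit (algebraMap A (Localization.Away (a * b)) x) := fun hx =>
    isUnit_of_dvd_unit (map_dvd _ hx) (IsLocalization.Away.algebraMap_isUnit (a * b))
  let χ : ∀ (x : A), x ∣ a * b → (CommAlgCat.of R (Localization.Away x) ⟶ CommAlgCat.of R (Localization.Away (a * b))) :=
    fun x hx => CommAlgCat.ofHom (IsLocalization.liftAlgHom (M := Submonoid.powers x) (f := (toAway A (a * b)).hom)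
      (fun y => by obtain ⟨k, hk⟩ := y.2; rw [← hk, map_pow]; exact (hu hx).pow k))
  have hχ : ∀ (x : A) (hx : x ∣ a * b), toAway A x ≫ χ x hx = toAway A (a * b) := fun x hx =>
    CommAlgCat.hom_ext (AlgHom.ext fun _ => IsLocalization.lift_eq _ _)
  have e1 : (spOver (χ a (dvd_mul_right a b)) ≫ l) ≫ 𝒜.incl i = spOver (toAway A (a * b)) ≫ g := by
    rw [Category.assoc, hl, ← Category.assoc, ← spOver_comp, hχ a (dvd_mul_right a b)]
  have e2 : (spOver (χ b (dvd_mul_left b a)) ≫ l') ≫ 𝒜.incl i' = spOver (toAway A (a * b)) ≫ g' := by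
    rw [Category.assoc, hl', ← Category.assoc, ← spOver_comp, hχ b (dvd_mul_left b a)]
  rw [← e1, ← e2]
  refine 𝒜.incl_eq_of_el_eq ?_
  rw [← 𝒜.isEl_toEl g _ _ _ _ e1, ← 𝒜.isEl_toEl g' _ _ _ _ e2, h]

theorem toEl_surjective (A : CommAlgCat.{u} R) : Function.Surjective (𝒜.toEl (A := A)) := by
  intro x
  let s : Set A := {h | ∃ i, (𝒜.c i).P _ (F.map (toAway A h) x)}
  have hs : Ideal.span s = ⊤ := by
    rw [← PrimeSpectrum.iSup_basicOpen_eq_top_iff']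
    refine eq_top_iff.2 fun p _ => ?_
    let L : CommAlgCat.{u} R := CommAlgCat.of R p.asIdeal.ResidueField
    let ψ : A ⟶ L := CommAlgCat.ofHom (IsScalarTower.toAlgHom R A p.asIdeal.ResidueField)
    obtain ⟨i, hi⟩ := 𝒜.cover L (Field.toIsField p.asIdeal.ResidueField) (F.map ψ x)
    obtain ⟨h, hne, hh⟩ := (𝒜.c i).isOpen x L (Field.toIsField p.asIdeal.ResidueField) ψ hi
    exact TopologicalSpace.Opens.mem_iSup.2 ⟨h, TopologicalSpace.Opens.mem_iSup.2 ⟨⟨i, hh⟩,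
      fun hm => hne (Ideal.algebraMap_residueField_eq_zero.2 hm)⟩⟩
  choose i l hl using fun h : s => (⟨h.2.choose, 𝒜.exists_el_eq _ h.2.choose_spec⟩ :
    ∃ (i : 𝒜.I) (l : sp (CommAlgCat.of R (Localization.Away (h : A))) ⟶ 𝒜.obj i), 𝒜.el i l = F.map (toAway A h) x)
  let 𝒰 := (Scheme.affineOpenCoverOfSpanRangeEqTop (R := CommRingCat.of A) (Subtype.val : s → A)
    (by rwa [Subtype.range_coe])).openCover
  let m : ∀ h : s, (sp (CommAlgCat.of R (Localization.Away (h : A)))).left ⟶ 𝒜.scheme.left :=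
    fun h => (l h ≫ 𝒜.incl (i h)).left
  have agree : ∀ h h' : s,
      pullback.fst (spMap (toAway A h.1)) (spMap (toAway A h'.1)) ≫ m h =
        pullback.snd (spMap (toAway A h.1)) (spMap (toAway A h'.1)) ≫ m h' := by
    intro h h'
    refine hom_ext_pt fun B q => ?_
    letI := algOf ((q ≫ pullback.fst (spMap (toAway A h.1)) (spMap (toAway A h'.1))) ≫
      (sp (CommAlgCat.of R (Localization.Away (h : A)))).hom)
    let a : sp (CommAlgCat.of R B) ⟶ sp (CommAlgCat.of R (Localization.Away (h : A))) :=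
      Over.homMk (q ≫ pullback.fst (spMap (toAway A h.1)) (spMap (toAway A h'.1))) (algOf_map _).symm
    let b : sp (CommAlgCat.of R B) ⟶ sp (CommAlgCat.of R (Localization.Away (h' : A))) :=
      Over.homMk (q ≫ pullback.snd (spMap (toAway A h.1)) (spMap (toAway A h'.1))) (by
        refine Eq.trans ?_ (algOf_map _).symm
        show (q ≫ _) ≫ (sp (CommAlgCat.of R (Localization.Away (h' : A)))).hom = _
        rw [← spMap_w (toAway A h.1), ← spMap_w (toAway A h'.1)]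
        simp only [Category.assoc, pullback.condition_assoc])
    have hab : a ≫ spOver (toAway A h.1) = b ≫ spOver (toAway A h'.1) := Over.OverMorphism.ext (by
      show (q ≫ _) ≫ spMap _ = (q ≫ _) ≫ spMap _
      rw [Category.assoc, Category.assoc, pullback.condition])
    obtain ⟨α, hα⟩ := exists_spMap a
    obtain ⟨β, hβ⟩ := exists_spMap b
    rw [hα, hβ, ← spOver_comp, ← spOver_comp] at hab
    have key : (a ≫ l h) ≫ 𝒜.incl (i h) = (b ≫ l h') ≫ 𝒜.incl (i h') := by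
      refine 𝒜.incl_eq_of_el_eq ?_
      rw [hα, hβ, el_comp, el_comp, hl, hl, ← FunctorToTypes.map_comp_apply, ← FunctorToTypes.map_comp_apply,
        spOver_injective hab]
    rw [Category.assoc, Category.assoc] at key
    have key' : a.left ≫ m h = b.left ≫ m h' := congrArg CommaMorphism.left key
    calc q ≫ pullback.fst _ _ ≫ m h = a.left ≫ m h := (Category.assoc _ _ _).symm
      _ = b.left ≫ m h' := key'
      _ = q ≫ pullback.snd _ _ ≫ m h' := Category.assoc _ _ _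
  let g₀ := 𝒰.glueMorphisms m agree
  have hg₀ : ∀ h : s, spMap (toAway A h.1) ≫ g₀ = m h := fun h => Scheme.Cover.ι_glueMorphisms 𝒰 m agree h
  have w : g₀ ≫ 𝒜.scheme.hom = (sp A).hom := by
    refine Scheme.Cover.hom_ext 𝒰 _ _ fun h => ?_
    show spMap (toAway A h.1) ≫ g₀ ≫ _ = spMap (toAway A h.1) ≫ (sp A).hom
    rw [← Category.assoc, hg₀, spMap_w]
    exact Over.w (l h ≫ 𝒜.incl (i h))
  refine ⟨Over.homMk g₀ w, ?_⟩
  refine 𝒜.sep A s hs _ _ fun a ha => ?_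
  rw [← hl ⟨a, ha⟩]
  exact 𝒜.isEl_toEl _ _ _ (toAway A a) _ (Over.OverMorphism.ext (hg₀ ⟨a, ha⟩).symm)

include 𝒜 in
/-- A functor with an atlas is representable. -/
theorem exists_rep : ∃ (X : Over (Spec (CommRingCat.of R))) (e : ∀ A, (sp A ⟶ X) ≃ F.obj A),
    IsNat X F e :=
  ⟨𝒜.scheme, fun A => Equiv.ofBijective 𝒜.toEl ⟨𝒜.toEl_injective A, 𝒜.toEl_surjective A⟩,
    fun _ _ φ g => 𝒜.toEl_comp φ g⟩

end Atlas

end Groth.Agent.GrassX
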