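import Groth.Agent.Synt29.LGScheme

/-!
# The standard charts of the Grassmannian of quotients of a free module
-/

set_option autoImplicit false
set_option backward.isDefEq.respectTransparency false

universe u

open TensorProduct CategoryTheory AlgebraicGeometry

namespace Groth.Agent.GrassX

open Synt29 Synt29.GrassGraph Synt29.RepOpen
open Module (Grassmannian)

variable {R : Type u} [CommRing R] {n q : ℕ}

/-- The variables of a chart. -/
abbrev Var (S : Finset (Fin n)) := {c // c ∉ S} × {c // c ∈ S}

/-- The universal matrix of a chart. -/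
noncomputable def uX (R : Type u) [CommRing R] (S : Finset (Fin n)) (c : {c // c ∉ S}) (c' : S) :
    MvPolynomial (Var S) R := MvPolynomial.X (c, c')

/-- The chart of a set of columns. -/
noncomputable def chart (S : Finset (Fin n)) (hS : S.card = q) :
    Chart (Grassmannian.functor (R := R) (M := Fin n → R) q) where
  P _ N := InChart S N
  C := CommAlgCat.of R (MvPolynomial (Var S) R)
  univ := graph (R := R) S hS (uX R S)
  mem_univ := graph_inChart S hS _
  map_mem {_ _} φ {_} h := h.map φ.hom hS
  lift {A N} h := by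
    obtain ⟨v, hv, hv'⟩ := InChart.exists_eq h hS
    let η : MvPolynomial (Var S) R →ₐ[R] A := MvPolynomial.aeval fun w => v w.1 w.2
    refine ⟨CommAlgCat.ofHom η, ?_, fun ρ hρ => ?_⟩
    · show Grassmannian.map η (graph (R := R) S hS (uX R S)) = N
      rw [map_graph, hv]
      congr 1
      funext c c'
      exact MvPolynomial.aeval_X _ _
    · refine CommAlgCat.hom_ext (MvPolynomial.algHom_ext fun w => ?_)
      obtain ⟨c, c'⟩ := w
      replace hρ : Grassmannian.map ρ.hom (graph (R := R) S hS (uX R S)) = N := hρ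
      rw [map_graph] at hρ
      exact (congrFun (congrFun (hv' _ hρ.symm) c) c').trans (MvPolynomial.aeval_X (fun w : Var S => v w.1 w.2) (c, c')).symm
  isOpen {A} N L hL ψ h := by
    letI := hL.toField
    obtain ⟨a, ha, ha'⟩ := LG.exists_ne_zero_inChart (fun _ : Unit => S) (fun _ : Unit => N) ψ.hom fun _ => h
    exact ⟨a, ha, ha' _ _ (IsLocalization.Away.algebraMap_isUnit a) ()⟩

variable {X : Over (Spec (CommRingCat.of R))}
  (e : ∀ A : CommAlgCat.{u} R, (sp A ⟶ X) ≃ (Grassmannian.functor (R := R) (M := Fin n → R) q).obj A)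

/-- Compatibility of a representation with base change. -/
def GrNat : Prop := ∀ (A B : CommAlgCat.{u} R) (φ : A ⟶ B) (g : sp A ⟶ X) (g' : sp B ⟶ X),
  g'.left = Spec.map (CommRingCat.ofHom φ.hom.toRingHom) ≫ g.left →
    e B g' = (Grassmannian.functor (R := R) (M := Fin n → R) q).map φ (e A g)

variable {e} (he : GrNat e)

include he in
theorem GrNat.isNat : IsNat X _ e := fun A B φ g => he A B φ g _ rfl

/-- The open immersion of a chart. -/
noncomputable def emb (e : ∀ A : CommAlgCat.{u} R, (sp A ⟶ X) ≃ (Grassmannian.functor (R := R) (M := Fin n → R) q).obj A)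
    (S : Finset (Fin n)) (hS : S.card = q) : sp (CommAlgCat.of R (MvPolynomial (Var S) R)) ⟶ X :=
  (chart S hS).hom e

theorem e_emb (S : Finset (Fin n)) (hS : S.card = q) : e _ (emb e S hS) = graph (R := R) S hS (uX R S) :=
  Equiv.apply_symm_apply _ _

include he in
theorem isOpenImmersion_emb (S : Finset (Fin n)) (hS : S.card = q) : IsOpenImmersion (emb e S hS).left :=
  isOpenImmersion_hom he.isNat (chart S hS)

include he in
theorem mem_range_emb_iff {L : CommAlgCat.{u} R} (hL : IsField L) (p : sp L ⟶ X) (z : (sp L).left)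
    (S : Finset (Fin n)) (hS : S.card = q) :
    p.left z ∈ Set.range (emb e S hS).left ↔ InChart S (e L p) := by
  refine (RepOpen.mem_range_iff he.isNat (chart S hS) p z).trans ?_
  constructor
  · rintro ⟨h, hh, hP⟩
    letI := hL.toField
    have hne : IsUnit (AlgHom.id R L h) := isUnit_iff_ne_zero.2 fun (h0 : h = 0) => hh (h0 ▸ z.asIdeal.zero_mem)
    let ρ : Localization.Away h →ₐ[R] L := IsLocalization.liftAlgHom (M := Submonoid.powers h) (f := AlgHom.id R L)
      (fun y => by obtain ⟨k, hk⟩ := y.2; rw [← hk, map_pow]; exact hne.pow k)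
    have h1 := (chart S hS).map_mem (CommAlgCat.ofHom ρ) hP
    rw [← FunctorToTypes.map_comp_apply] at h1
    have h2 : toAway L h ≫ CommAlgCat.ofHom ρ = 𝟙 L :=
      CommAlgCat.hom_ext (AlgHom.ext fun x => IsLocalization.lift_eq _ _)
    rw [h2] at h1
    have h3 := CategoryTheory.Functor.map_id (Grassmannian.functor (R := R) (M := Fin n → R) q) L
    rw [h3] at h1
    exact h1
  · intro h
    exact ⟨1, z.isPrime.one_notMem, (chart S hS).map_mem (toAway L 1) h⟩

theorem exists_fieldPt (x : X.left) :
    ∃ (L : CommAlgCat.{u} R) (_ : IsField L) (p : sp L ⟶ X), ∀ z, p.left z = x := by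
  obtain ⟨χ, hχ⟩ : ∃ χ, Spec.map χ = X.left.fromSpecResidueField x ≫ X.hom :=
    ⟨Spec.preimage _, Spec.map_preimage _⟩
  letI : Algebra R (X.left.residueField x) := χ.hom.toAlgebra
  refine ⟨CommAlgCat.of R (X.left.residueField x), Field.toIsField _,
    Over.homMk (X.left.fromSpecResidueField x) hχ.symm, fun z => ?_⟩
  exact Scheme.fromSpecResidueField_apply x z

include he in
theorem exists_mem_emb (x : X.left) :
    ∃ (S : Finset (Fin n)) (hS : S.card = q), x ∈ Set.range (emb e S hS).left := by
  obtain ⟨L, hL, p, hp⟩ := exists_fieldPt x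
  letI := hL.toField
  obtain ⟨S, hS, h⟩ := LG.exists_cols (e L p)
  refine ⟨S, hS, ?_⟩
  rw [← hp ⟨⊥, Ideal.isPrime_bot⟩, mem_range_emb_iff he hL]
  exact h

end Groth.Agent.GrassX
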