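import Groth.Agent.GrassX.Chart
import Mathlib.LinearAlgebra.Matrix.Adjugate

/-!
# Plücker coordinates of the graph charts
-/

set_option autoImplicit false

universe u

open TensorProduct Matrix

namespace Groth.Agent.GrassX

open Synt29.GrassGraph
open Module (Grassmannian)

variable {R : Type u} [CommRing R] {n q : ℕ}

/-- The sets of columns. -/
abbrev Cols (n q : ℕ) := {S : Finset (Fin n) // S.card = q}

theorem card_cols : Fintype.card (Cols n q) = n.choose q := by
  rw [Fintype.card_finset_len, Fintype.card_fin]

/-- An enumeration of a set of columns. -/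
noncomputable def enum (S : Cols n q) : Fin q ≃ S.1 := (Finset.equivFinOfCardEq S.2).symm

variable {A : Type u} [CommRing A] [Algebra R A]

/-- The square matrix of a list of columns in a chart. -/
noncomputable def colMat (R : Type u) [CommRing R] [Algebra R A] (S : Cols n q) (u : {c // c ∉ S.1} → S.1 → A)
    (col : Fin q → Fin n) : Matrix (Fin q) (Fin q) A :=
  Matrix.of fun i j => proj (R := R) S.1 u (bas A (col j)) (enum S i)

/-- The Plücker coordinates of a chart. -/
noncomputable def plu (R : Type u) [CommRing R] [Algebra R A] (S : Cols n q) (u : {c // c ∉ S.1} → S.1 → A)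
    (T : Cols n q) : A :=
  (colMat R S u fun i => enum T i).det

theorem plu_self (S : Cols n q) (u : {c // c ∉ S.1} → S.1 → A) : plu R S u S = 1 := by
  have h : (colMat R S u fun i => enum S i) = 1 := by
    ext i j
    rw [colMat, Matrix.of_apply, proj_bas_mem, Matrix.one_apply, Pi.single_apply]
    by_cases h : i = j
    · rw [if_pos (congrArg _ h), if_pos h]
    · rw [if_neg fun h' => h ((enum S).injective h'), if_neg h]
  rw [plu, h, Matrix.det_one]

theorem colMat_map {B : Type u} [CommRing B] [Algebra R B] (φ : A →ₐ[R] B) (S : Cols n q)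
    (u : {c // c ∉ S.1} → S.1 → A) (col : Fin q → Fin n) :
    colMat R S (fun c c' => φ (u c c')) col = (colMat R S u col).map φ := by
  ext i j
  rw [colMat, Matrix.of_apply, Matrix.map_apply, colMat, Matrix.of_apply, proj_bas, proj_bas]
  split_ifs with h
  · rw [Pi.single_apply, Pi.single_apply]; split_ifs <;> simp
  · rfl

theorem plu_map {B : Type u} [CommRing B] [Algebra R B] (φ : A →ₐ[R] B) (S : Cols n q)
    (u : {c // c ∉ S.1} → S.1 → A) (T : Cols n q) :
    plu R S (fun c c' => φ (u c c')) T = φ (plu R S u T) := by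
  rw [plu, plu, colMat_map, AlgHom.map_det]
  rfl

theorem colMat_trans (S S' : Cols n q) (u : {c // c ∉ S.1} → S.1 → A) (u' : {c // c ∉ S'.1} → S'.1 → A)
    (h : graph (R := R) S.1 S.2 u = graph S'.1 S'.2 u') (col : Fin q → Fin n) :
    colMat R S' u' col = colMat R S' u' (fun i => enum S i) * colMat R S u col := by
  have hk : LinearMap.ker (proj (R := R) S.1 u) = LinearMap.ker (proj (R := R) S'.1 u') :=
    congrArg Module.Grassmannian.toSubmodule h
  have key : ∀ x, proj (R := R) S'.1 u' x = proj S'.1 u' (sect S.1 (proj S.1 u x)) := fun x => by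
    rw [← sub_eq_zero, ← map_sub, ← LinearMap.mem_ker, ← hk, LinearMap.mem_ker, map_sub, proj_sect, sub_self]
  ext i j
  rw [Matrix.mul_apply, colMat, Matrix.of_apply, key (bas A (col j)), sect, Module.Basis.constr_apply_fintype, map_sum,
    Finset.sum_apply, ← Equiv.sum_comp (enum S)]
  refine Finset.sum_congr rfl fun l _ => ?_
  rw [map_smul, Pi.smul_apply, smul_eq_mul, mul_comm, Pi.basisFun_equivFun]
  rfl

theorem plu_trans (S S' : Cols n q) (u : {c // c ∉ S.1} → S.1 → A) (u' : {c // c ∉ S'.1} → S'.1 → A)
    (h : graph (R := R) S.1 S.2 u = graph S'.1 S'.2 u') (T : Cols n q) :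
    plu R S' u' T = plu R S' u' S * plu R S u T := by
  rw [plu, colMat_trans S S' u u' h, Matrix.det_mul]
  rfl

theorem isUnit_plu (S S' : Cols n q) (u : {c // c ∉ S.1} → S.1 → A) (u' : {c // c ∉ S'.1} → S'.1 → A)
    (h : graph (R := R) S.1 S.2 u = graph S'.1 S'.2 u') : IsUnit (plu R S' u' S) := by
  have h1 := plu_trans S S' u u' h S'
  rw [plu_self] at h1
  exact IsUnit.of_mul_eq_one _ h1.symm

theorem inChart_of_isUnit (S T : Cols n q) (u : {c // c ∉ S.1} → S.1 → A) (h : IsUnit (plu R S u T)) :
    InChart T.1 (graph (R := R) S.1 S.2 u) := by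
  intro z
  obtain ⟨x, rfl⟩ := Submodule.mkQ_surjective _ z
  obtain ⟨y, hy⟩ := Matrix.mulVec_surjective_iff_isUnit.2 ((Matrix.isUnit_iff_isUnit_det _).2 h)
    (fun i => proj (R := R) S.1 u x (enum S i))
  refine ⟨fun c => y ((enum T).symm c), ?_⟩
  rw [colMap, LinearMap.comp_apply, Submodule.mkQ_apply, Submodule.mkQ_apply, Submodule.Quotient.eq,
    graph_toSubmodule, LinearMap.mem_ker, map_sub, sub_eq_zero]
  funext c'
  obtain ⟨i, rfl⟩ := (enum S).surjective c'
  rw [← congrFun hy i, sect, Module.Basis.constr_apply_fintype, map_sum, Finset.sum_apply, ← Equiv.sum_comp (enum T)]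
  refine Finset.sum_congr rfl fun l _ => ?_
  rw [map_smul, Pi.smul_apply, smul_eq_mul, mul_comm, Pi.basisFun_equivFun, LinearEquiv.refl_apply,
    Equiv.symm_apply_apply]
  rfl

/-- Every entry of a chart is a Plücker coordinate up to sign. -/
theorem exists_plu_eq (S : Cols n q) (u : {c // c ∉ S.1} → S.1 → A) (c : {c // c ∉ S.1}) (c' : S.1) :
    ∃ (T : Cols n q) (ε : ℤˣ), plu R S u T = ε • u c c' := by
  classical
  let i₀ := (enum S).symm c'
  let col : Fin q → Fin n := Function.update (fun i => (enum S i : Fin n)) i₀ c.1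
  have hinj : Function.Injective col := by
    intro a b hab
    simp only [col, Function.update_apply] at hab
    split_ifs at hab with ha hb hb
    · exact ha.trans hb.symm
    · exact absurd (hab ▸ (enum S b).2) c.2
    · exact absurd (hab ▸ (enum S a).2) c.2
    · exact (enum S).injective (Subtype.ext hab)
  let T : Cols n q := ⟨Finset.univ.image col, by rw [Finset.card_image_of_injective _ hinj, Finset.card_univ, Fintype.card_fin]⟩
  let σ : Fin q → Fin q := fun i => (enum T).symm ⟨col i, Finset.mem_image_of_mem _ (Finset.mem_univ i)⟩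
  have hσ : Function.Bijective σ := by
    refine Finite.injective_iff_bijective.1 fun a b hab => hinj ?_
    exact congrArg Subtype.val ((enum T).symm.injective hab)
  let τ : Equiv.Perm (Fin q) := Equiv.ofBijective σ hσ
  have hsub : colMat R S u col = (colMat R S u fun i => enum T i).submatrix id τ := by
    ext i j
    simp [colMat, τ, σ]
  have hdet : (colMat R S u col).det = u c c' := by
    have h1 : colMat R S u col = (1 : Matrix (Fin q) (Fin q) A).updateCol i₀ (fun i => u c (enum S i)) := by
      ext i j
      rw [colMat, Matrix.of_apply, Matrix.updateCol_apply]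
      simp only [col, Function.update_apply]
      by_cases hj : j = i₀
      · rw [if_pos hj, if_pos hj, proj_bas_notMem]
      · rw [if_neg hj, if_neg hj, proj_bas_mem, Pi.single_apply, Matrix.one_apply]
        simp
    rw [h1, ← Matrix.cramer_apply, Matrix.cramer_one]
    simp [i₀]
  refine ⟨T, Equiv.Perm.sign τ, ?_⟩
  rw [plu, ← hdet, hsub, Matrix.det_permute', Units.smul_def, zsmul_eq_mul, ← mul_assoc, ← Int.cast_mul,
    Int.units_coe_mul_self]
  simp

end Groth.Agent.GrassX
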