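import Mathlib.RingTheory.Grassmannian
import Mathlib.RingTheory.LocalProperties.Submodule
import Mathlib.RingTheory.LocalProperties.FinitePresentation
import Mathlib.RingTheory.Flat.Localization
import Mathlib.RingTheory.Flat.EquationalCriterion
import Mathlib.RingTheory.Localization.BaseChange

/-!
# Zariski descent for points of the Grassmannian
-/

set_option autoImplicit false
set_option linter.style.haveILetI false

universe u

open CategoryTheory TensorProduct

namespace Groth.Agent.GrassX.Desc

open Module (Grassmannian)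

variable {R : Type u} [CommRing R] {M : Type u} [AddCommGroup M] [Module R M] {q : ℕ}
variable {A B : Type u} [CommRing A] [Algebra R A] [CommRing B] [Algebra R B]

/-- The semilinear map between base changes. -/
noncomputable def ι (φ : A →ₐ[R] B) : A ⊗[R] M →ₗ[R] B ⊗[R] M := φ.toLinearMap.rTensor M

theorem ι_smul (φ : A →ₐ[R] B) (a : A) (x : A ⊗[R] M) : ι φ (a • x) = φ a • ι φ x := by
  induction x with
  | zero => simp
  | tmul a' m => simp [ι, smul_tmul', LinearMap.rTensor_tmul]
  | add x y hx hy => rw [smul_add, map_add, map_add, smul_add, hx, hy]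

theorem ι_ι {C : Type u} [CommRing C] [Algebra R C] (φ : A →ₐ[R] B) (ψ : B →ₐ[R] C) (x : A ⊗[R] M) :
    ι ψ (ι φ x) = ι (ψ.comp φ) x := by
  induction x with
  | zero => simp
  | tmul a m => rfl
  | add x y hx hy => simp only [map_add, hx, hy]

theorem span_image_span (φ : A →ₐ[R] B) (s : Set (A ⊗[R] M)) :
    Submodule.span B (ι φ '' (Submodule.span A s : Submodule A (A ⊗[R] M))) = Submodule.span B (ι φ '' s) := by
  refine le_antisymm (Submodule.span_le.2 ?_) (Submodule.span_mono (Set.image_mono Submodule.subset_span))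
  rintro _ ⟨x, hx, rfl⟩
  induction hx using Submodule.span_induction with
  | mem z hz => exact Submodule.subset_span ⟨z, hz, rfl⟩
  | zero => simp
  | add a b _ _ ha hb => rw [map_add]; exact add_mem ha hb
  | smul t a _ ha => rw [ι_smul]; exact Submodule.smul_mem _ _ ha

theorem ker_baseChangeMkQ [Algebra A B] [IsScalarTower R A B] (N : Submodule A (A ⊗[R] M)) :
    LinearMap.ker (Grassmannian.baseChangeMkQ B N) =
      Submodule.span B (ι (IsScalarTower.toAlgHom R A B) '' (N : Set (A ⊗[R] M))) := by
  let φ : A →ₐ[R] B := IsScalarTower.toAlgHom R A B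
  let cbc := AlgebraTensorModule.cancelBaseChange R A B B M
  have hι : ∀ x, ι φ x = cbc (1 ⊗ₜ[A] x) := fun x => by
    induction x with
    | zero => simp
    | tmul a m => simp [cbc, ι, φ, Algebra.smul_def]
    | add x y hx hy => rw [map_add, tmul_add, map_add, hx, hy]
  refine le_antisymm (fun z hz => ?_) (Submodule.span_le.2 ?_)
  · have hz' : (N.mkQ).baseChange B (cbc.symm z) = 0 := hz
    obtain ⟨v, hv⟩ := (lTensor_exact (M := N) B (LinearMap.exact_subtype_mkQ N)
      N.mkQ_surjective (cbc.symm z)).1 hz'
    rw [← cbc.apply_symm_apply z, ← hv]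
    clear hv hz' hz
    induction v with
    | zero => simp
    | tmul b x =>
      rw [LinearMap.lTensor_tmul, show b ⊗ₜ[A] (N.subtype x) = b • ((1 : B) ⊗ₜ[A] (x : A ⊗[R] M)) by
        rw [smul_tmul', smul_eq_mul, mul_one]; rfl, map_smul, ← hι]
      exact Submodule.smul_mem _ _ (Submodule.subset_span ⟨_, x.2, rfl⟩)
    | add x y hx hy => rw [map_add, map_add]; exact add_mem hx hy
  · rintro _ ⟨x, hx, rfl⟩
    show (N.mkQ).baseChange B (cbc.symm (ι φ x)) = 0
    rw [hι, LinearEquiv.symm_apply_apply, LinearMap.baseChange_tmul, Submodule.mkQ_apply,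
      (Submodule.Quotient.mk_eq_zero _).2 hx, tmul_zero]

theorem map_eq_span (φ : A →ₐ[R] B) (N : Grassmannian A (A ⊗[R] M) q) :
    (Grassmannian.map φ N).toSubmodule = Submodule.span B (ι φ '' N.toSubmodule) := by
  rw [Grassmannian.map_toSubmodule]
  letI : Algebra A B := φ.toAlgebra
  letI : IsScalarTower R A B := IsScalarTower.of_algebraMap_eq' φ.comp_algebraMap.symm
  exact ker_baseChangeMkQ N.toSubmodule

/-- The map to a localisation. -/
noncomputable abbrev toLoc (h : A) : A →ₐ[R] Localization.Away h := IsScalarTower.toAlgHom R A _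

/-- The localisation of the base changed module. -/
noncomputable abbrev L (h : A) : A ⊗[R] M →ₗ[A] Localization.Away h ⊗[R] M :=
  AlgebraTensorModule.rTensor R M (Algebra.linearMap A (Localization.Away h))

theorem L_apply (h : A) (x : A ⊗[R] M) : L (R := R) h x = ι (toLoc h) x := by
  induction x with
  | zero => simp
  | tmul a m => rfl
  | add x y hx hy => simp only [map_add, hx, hy]

instance isLocalizedModule_L (h : A) : IsLocalizedModule (Submonoid.powers h) (L (R := R) (M := M) h) :=
  inferInstance

theorem span_eq_localized' (h : A) (N : Submodule A (A ⊗[R] M)) :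
    Submodule.span (Localization.Away h) (ι (R := R) (toLoc h) '' N) =
      N.localized' (Localization.Away h) (Submonoid.powers h) (L (R := R) h) := by
  rw [Submodule.localized'_eq_span]
  exact congrArg _ (Set.image_congr fun x _ => (L_apply h x).symm)

theorem exists_pow_smul_mem (h : A) (N : Submodule A (A ⊗[R] M)) {x : A ⊗[R] M}
    (hx : ι (toLoc (R := R) h) x ∈ Submodule.span (Localization.Away h) (ι (R := R) (toLoc h) '' N)) :
    ∃ m : ℕ, h ^ m • x ∈ N := by
  rw [span_eq_localized', ← L_apply] at hx
  obtain ⟨n, hn, ⟨s, k, rfl⟩, hs⟩ := hx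
  rw [IsLocalizedModule.mk'_eq_iff, Submonoid.smul_def, ← map_smul] at hs
  obtain ⟨⟨c, j, rfl⟩, hc⟩ := IsLocalizedModule.exists_of_eq (S := Submonoid.powers h) hs
  refine ⟨j + k, ?_⟩
  rw [pow_add, mul_smul]
  exact hc ▸ N.smul_mem _ hn

theorem le_of_span (s : Set A) (hs : Ideal.span s = ⊤) (N N' : Submodule A (A ⊗[R] M))
    (h : ∀ a ∈ s, Submodule.span (Localization.Away a) (ι (R := R) (toLoc a) '' (N : Set (A ⊗[R] M))) ≤
      Submodule.span (Localization.Away a) (ι (R := R) (toLoc a) '' (N' : Set (A ⊗[R] M)))) : N ≤ N' := by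
  intro x hx
  choose m hm using fun a : s => exists_pow_smul_mem a.1 N' (h a.1 a.2 (Submodule.subset_span ⟨x, hx, rfl⟩))
  refine Submodule.mem_of_span_top_of_smul_mem N' _ (Ideal.span_range_pow_eq_top s hs m) x ?_
  rintro ⟨_, a, rfl⟩
  exact hm a

theorem ext_of_span (s : Set A) (hs : Ideal.span s = ⊤) {N N' : Grassmannian A (A ⊗[R] M) q}
    (h : ∀ a ∈ s, Grassmannian.map (toLoc (R := R) a) N = Grassmannian.map (toLoc a) N') : N = N' := by
  refine Grassmannian.ext (le_antisymm (le_of_span s hs _ _ fun a ha => ?_) (le_of_span s hs _ _ fun a ha => ?_)) <;>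
    rw [← map_eq_span, ← map_eq_span, h a ha]

variable {t : Finset A} (x : ∀ h : t, Grassmannian (Localization.Away (h : A)) (Localization.Away (h : A) ⊗[R] M) q)

/-- The glued submodule. -/
noncomputable def glued : Submodule A (A ⊗[R] M) :=
  ⨅ h : t, ((x h).toSubmodule.restrictScalars A).comap (L (R := R) (h : A))

theorem mem_glued (y : A ⊗[R] M) : y ∈ glued x ↔ ∀ h : t, ι (toLoc (R := R) (h : A)) y ∈ (x h).toSubmodule := by
  simp only [glued, Submodule.mem_iInf, Submodule.mem_comap, Submodule.restrictScalars_mem, L_apply]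

variable (compat : ∀ (h h' : t) (C : Type u) [CommRing C] [Algebra R C] (φ : Localization.Away (h : A) →ₐ[R] C)
    (φ' : Localization.Away (h' : A) →ₐ[R] C), φ.comp (toLoc (h : A)) = φ'.comp (toLoc (h' : A)) →
    Grassmannian.map φ (x h) = Grassmannian.map φ' (x h'))

include compat in
theorem span_glued (k : t) :
    Submodule.span (Localization.Away (k : A)) (ι (toLoc (R := R) (k : A)) '' glued x) = (x k).toSubmodule := by
  refine le_antisymm (Submodule.span_le.2 ?_) fun y hy => ?_
  · rintro _ ⟨z, hz, rfl⟩
    exact (mem_glued x z).1 hz k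
  obtain ⟨⟨z, ⟨s, j, rfl⟩⟩, hz⟩ := IsLocalizedModule.surj (Submonoid.powers (k : A)) (L (R := R) (k : A)) y
  rw [L_apply, Submonoid.smul_def] at hz
  have hl : ∀ l : t, ∃ m : ℕ, ι (toLoc (R := R) (l : A)) ((k : A) ^ m • z) ∈ (x l).toSubmodule := by
    intro l
    let kl : Localization.Away (l : A) := toLoc (R := R) (l : A) (k : A)
    let φ' : Localization.Away (l : A) →ₐ[R] Localization.Away kl := toLoc kl
    let φ : Localization.Away (k : A) →ₐ[R] Localization.Away kl :=
      IsLocalization.liftAlgHom (M := Submonoid.powers (k : A)) (f := φ'.comp (toLoc (l : A)))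
        (fun w => by
          obtain ⟨i, hi⟩ := w.2
          rw [← hi, map_pow]
          exact (IsLocalization.Away.algebraMap_isUnit (S := Localization.Away kl) kl).pow i)
    have hφ : φ.comp (toLoc (k : A)) = φ'.comp (toLoc (l : A)) := AlgHom.ext fun w => IsLocalization.lift_eq _ _
    have hC := congrArg Module.Grassmannian.toSubmodule (compat k l _ φ φ' hφ)
    rw [map_eq_span, map_eq_span] at hC
    have hmem : ι φ' (ι (toLoc (R := R) (l : A)) z) ∈ Submodule.span (Localization.Away kl) (ι φ' '' (x l).toSubmodule) := by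
      rw [← hC, ι_ι, ← hφ, ← ι_ι]
      refine Submodule.subset_span ⟨_, ?_, rfl⟩
      show ι (toLoc (R := R) (k : A)) z ∈ (x k).toSubmodule
      rw [← hz, ← algebraMap_smul (Localization.Away (k : A))]
      exact Submodule.smul_mem _ _ hy
    obtain ⟨m, hm⟩ := exists_pow_smul_mem kl (x l).toSubmodule hmem
    exact ⟨m, by rwa [ι_smul, map_pow]⟩
  choose m hm using hl
  let n := Finset.univ.sup m
  have hzn : (k : A) ^ n • z ∈ glued x := (mem_glued x _).2 fun l => by
    have : (k : A) ^ n • z = (k : A) ^ (n - m l) • ((k : A) ^ m l • z) := by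
      rw [← mul_smul, ← pow_add, Nat.sub_add_cancel (Finset.le_sup (f := m) (Finset.mem_univ l))]
    rw [this, ι_smul]
    exact Submodule.smul_mem _ _ (hm l)
  have hu : IsUnit (algebraMap A (Localization.Away (k : A)) ((k : A) ^ (n + j))) := by
    rw [map_pow]; exact (IsLocalization.Away.algebraMap_isUnit (k : A)).pow _
  have he : algebraMap A (Localization.Away (k : A)) ((k : A) ^ (n + j)) • y = ι (toLoc (R := R) (k : A)) ((k : A) ^ n • z) := by
    rw [ι_smul, ← hz, ← algebraMap_smul (Localization.Away (k : A)) ((k : A) ^ j), smul_smul, pow_add, map_mul]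
    rfl
  have hy' : y = (↑hu.unit⁻¹ : Localization.Away (k : A)) • algebraMap A (Localization.Away (k : A)) ((k : A) ^ (n + j)) • y := by
    rw [smul_smul, IsUnit.val_inv_mul, one_smul]
  rw [hy', he]
  exact Submodule.smul_mem _ _ (Submodule.subset_span ⟨_, hzn, rfl⟩)

include compat in
theorem exists_glue (ht : Ideal.span (t : Set A) = ⊤) :
    ∃ N : Grassmannian A (A ⊗[R] M) q, ∀ k : t, Grassmannian.map (toLoc (R := R) (k : A)) N = x k := by
  let P := glued x
  have hP : ∀ k : t, P.localized' (Localization.Away (k : A)) (Submonoid.powers (k : A)) (L (R := R) (k : A)) =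
      (x k).toSubmodule := fun k => by rw [← span_eq_localized']; exact span_glued x compat k
  let S := (t : Set A)
  let g : ∀ k : S, (A ⊗[R] M) ⧸ P →ₗ[A] (Localization.Away (k : A) ⊗[R] M) ⧸
      P.localized' (Localization.Away (k : A)) (Submonoid.powers (k : A)) (L (R := R) (k : A)) :=
    fun k => P.toLocalizedQuotient' _ _ _
  have hfin : ∀ k : S, Module.Finite (Localization.Away (k : A)) ((Localization.Away (k : A) ⊗[R] M) ⧸
      P.localized' (Localization.Away (k : A)) (Submonoid.powers (k : A)) (L (R := R) (k : A))) := fun k =>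
    Module.Finite.equiv (Submodule.quotEquivOfEq _ _ (hP k)).symm
  have hproj : ∀ k : S, Module.Projective (Localization.Away (k : A)) ((Localization.Away (k : A) ⊗[R] M) ⧸
      P.localized' (Localization.Away (k : A)) (Submonoid.powers (k : A)) (L (R := R) (k : A))) := fun k =>
    Module.Projective.of_equiv (Submodule.quotEquivOfEq _ _ (hP k)).symm
  have : Module.FinitePresentation A ((A ⊗[R] M) ⧸ P) :=
    Module.FinitePresentation.of_localizationSpan' (Rₚ := fun k : S => Localization.Away (k : A))
      (Mₚ := fun k : S => (Localization.Away (k : A) ⊗[R] M) ⧸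
        P.localized' (Localization.Away (k : A)) (Submonoid.powers (k : A)) (L (R := R) (k : A))) S ht g fun k => by
      have := hfin k; have := hproj k
      exact Module.finitePresentation_of_projective _ _
  have : Module.Flat A ((A ⊗[R] M) ⧸ P) := Module.flat_of_isLocalized_span A _ S ht _ g fun k => by
    have := hproj k
    have : Module.Flat A (Localization.Away (k : A)) := IsLocalization.flat _ (Submonoid.powers (k : A))
    exact Module.Flat.trans A (Localization.Away (k : A)) _
  have hpr : Module.Projective A ((A ⊗[R] M) ⧸ P) := Module.Flat.projective_of_finitePresentation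
  refine ⟨{ toSubmodule := P, finite_quotient := inferInstance, projective_quotient := hpr,
            rankAtStalk_eq := fun p => ?_ }, fun k => Grassmannian.ext ?_⟩
  · obtain ⟨k, hk, hkp⟩ : ∃ k ∈ t, k ∉ p.asIdeal := by
      by_contra! hcon
      exact p.2.ne_top (top_le_iff.1 (ht ▸ Ideal.span_le.2 fun a ha => hcon a ha))
    let B := Localization.Away k
    obtain ⟨q', hq'⟩ : p ∈ Set.range (PrimeSpectrum.comap (algebraMap A B)) := by
      rw [PrimeSpectrum.localization_away_comap_range B k]; exact hkp
    have hker : LinearMap.ker (Grassmannian.baseChangeMkQ B P) = (x ⟨k, hk⟩).toSubmodule := by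
      refine Eq.trans ?_ (span_glued x compat ⟨k, hk⟩)
      exact ker_baseChangeMkQ (B := B) P
    let e := (Grassmannian.baseChangeMkQEquiv (B := B) P).symm.trans (Submodule.quotEquivOfEq _ _ hker)
    have h1 := Module.rankAtStalk_baseChange (R := A) (S := B) (M := (A ⊗[R] M) ⧸ P) q'
    rw [Module.rankAtStalk_eq_of_equiv e, (x ⟨k, hk⟩).rankAtStalk_eq, hq'] at h1
    exact h1.symm
  · exact (map_eq_span _ _).trans (span_glued x compat k)

end Groth.Agent.GrassX.Desc
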