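import Groth.Prelude.Def_CohB1
import Mathlib.AlgebraicGeometry.ProjectiveSpectrum.Basic

/-!
# Ring-valued points of projective space given by homogeneous coordinates
-/

set_option autoImplicit false
set_option backward.isDefEq.respectTransparency false

universe u

open CategoryTheory AlgebraicGeometry
open HomogeneousLocalization (Away)

namespace Groth.Agent.GrassX.ProjPt

variable {n : ℕ} {K : Type u} [CommRing K] {A : Type u} [CommRing A]
  (f : MvPolynomial (Fin (n + 1)) K →+* A) {x : MvPolynomial (Fin (n + 1)) K} {m : ℕ}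

theorem X_mem (t : Fin (n + 1)) : (MvPolynomial.X t : MvPolynomial (Fin (n + 1)) K) ∈ CohB1.polyGrading n K 1 :=
  MvPolynomial.isHomogeneous_X K t

/-- Evaluation of the degree zero fractions. -/
noncomputable def φ (x : MvPolynomial (Fin (n + 1)) K) (hu : IsUnit (f x)) : Away (CohB1.polyGrading n K) x →+* A :=
  (IsLocalization.Away.lift x (S := Localization.Away x) hu).comp
    (algebraMap (Away (CohB1.polyGrading n K) x) (Localization.Away x))

theorem φ_mk (hx : x ∈ CohB1.polyGrading n K m) (hu : IsUnit (f x)) (d : ℕ) (p : MvPolynomial (Fin (n + 1)) K)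
    (hp : p ∈ CohB1.polyGrading n K (d • m)) :
    φ f x hu (Away.mk (CohB1.polyGrading n K) hx d p hp) * f x ^ d = f p := by
  show IsLocalization.Away.lift x hu (Away.mk (CohB1.polyGrading n K) hx d p hp).val * _ = _
  have h : (Away.mk (CohB1.polyGrading n K) hx d p hp).val * algebraMap _ (Localization.Away x) (x ^ d) =
      algebraMap _ (Localization.Away x) p := by
    rw [HomogeneousLocalization.Away.val_mk, ← Localization.mk_one_eq_algebraMap, ← Localization.mk_one_eq_algebraMap,
      Localization.mk_mul, Localization.mk_eq_mk_iff, Localization.r_iff_exists]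
    exact ⟨1, by simp [mul_comm]⟩
  have h2 := congrArg (IsLocalization.Away.lift (S := Localization.Away x) x hu) h
  rwa [map_mul, IsLocalization.Away.lift_eq, IsLocalization.Away.lift_eq, map_pow] at h2

/-- The point with given homogeneous coordinates. -/
noncomputable def pt (x : MvPolynomial (Fin (n + 1)) K) (hx : x ∈ CohB1.polyGrading n K m) (hm : 0 < m) (hu : IsUnit (f x)) :
    Spec (CommRingCat.of A) ⟶ CohB1.ProjSpace n K :=
  Spec.map (CommRingCat.ofHom (φ f x hu)) ≫ Proj.awayι (CohB1.polyGrading n K) x hx hm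

theorem SpecMap_pt {B : Type u} [CommRing B] (ψ : A →+* B) (hx : x ∈ CohB1.polyGrading n K m) (hm : 0 < m)
    (hu : IsUnit (f x)) :
    Spec.map (CommRingCat.ofHom ψ) ≫ pt f x hx hm hu = pt (ψ.comp f) x hx hm (hu.map ψ) := by
  rw [pt, pt, ← Category.assoc, ← Spec.map_comp, ← CommRingCat.ofHom_comp]
  have h : ψ.comp (φ f x hu) = φ (ψ.comp f) x (hu.map ψ) := by
    rw [φ, φ, ← RingHom.comp_assoc]
    congr 1
    refine IsLocalization.ringHom_ext (Submonoid.powers x) (RingHom.ext fun p => ?_)
    simp [IsLocalization.Away.lift_eq]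
  rw [h]

theorem pt_congr {f' : MvPolynomial (Fin (n + 1)) K →+* A} (c : A)
    (hc : ∀ (d : ℕ) (p : MvPolynomial (Fin (n + 1)) K), p ∈ CohB1.polyGrading n K d → f' p = c ^ d * f p)
    (hcu : IsUnit c)
    (hx : x ∈ CohB1.polyGrading n K m) (hm : 0 < m) (hu : IsUnit (f x)) (hu' : IsUnit (f' x)) :
    pt f x hx hm hu = pt f' x hx hm hu' := by
  have h : φ f x hu = φ f' x hu' := by
    refine RingHom.ext fun z => ?_
    obtain ⟨d, p, hp, rfl⟩ := HomogeneousLocalization.Away.mk_surjective (CohB1.polyGrading n K) hx z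
    refine (((hcu.pow (d • m))).mul (hu.pow d)).mul_left_injective ?_
    show _ * _ = _ * _
    rw [mul_left_comm, φ_mk f hx hu d p hp, ← hc _ p hp, ← φ_mk f' hx hu' d p hp, hc m x hx, mul_pow, ← pow_mul,
      smul_eq_mul, Nat.mul_comm m d]
  rw [pt, pt, h]

theorem pt_mul {y z : MvPolynomial (Fin (n + 1)) K} {m' : ℕ} (hx : x ∈ CohB1.polyGrading n K m) (hm : 0 < m)
    (hy : y ∈ CohB1.polyGrading n K m') (hz : z = x * y) (hu : IsUnit (f x)) (huz : IsUnit (f z)) :
    pt f x hx hm hu = pt f z (hz ▸ SetLike.mul_mem_graded hx hy) (hm.trans_le (m.le_add_right m')) huz := by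
  rw [pt, pt, ← Proj.SpecMap_awayMap_awayι (CohB1.polyGrading n K) hx hm hy hz, ← Category.assoc, ← Spec.map_comp,
    ← CommRingCat.ofHom_comp]
  have h : φ f x hu = (φ f z huz).comp (HomogeneousLocalization.awayMap (CohB1.polyGrading n K) hy hz) := by
    refine RingHom.ext fun a => ?_
    show IsLocalization.Away.lift x hu a.val =
      IsLocalization.Away.lift z huz (HomogeneousLocalization.awayMap (CohB1.polyGrading n K) hy hz a).val
    rw [HomogeneousLocalization.val_awayMap, ← RingHom.comp_apply (IsLocalization.Away.lift z huz)]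
    refine RingHom.congr_fun ?_ a.val
    refine IsLocalization.ringHom_ext (Submonoid.powers x) (RingHom.ext fun p => ?_)
    simp [IsLocalization.Away.lift_eq]
  rw [h]

/-- Proportional coordinates give the same point. -/
theorem pt_eq_pt {f' : MvPolynomial (Fin (n + 1)) K →+* A} (c : A)
    (hc : ∀ (d : ℕ) (p : MvPolynomial (Fin (n + 1)) K), p ∈ CohB1.polyGrading n K d → f' p = c ^ d * f p)
    (hcu : IsUnit c) (s t : Fin (n + 1)) (hs : IsUnit (f (MvPolynomial.X s))) (ht : IsUnit (f' (MvPolynomial.X t))) :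
    pt f (MvPolynomial.X s) (X_mem s) Nat.one_pos hs = pt f' (MvPolynomial.X t) (X_mem t) Nat.one_pos ht := by
  have hst : IsUnit (f (MvPolynomial.X s * MvPolynomial.X t)) := by
    rw [map_mul]
    refine hs.mul ?_
    rw [hc 1 _ (X_mem t), pow_one] at ht
    exact isUnit_of_mul_isUnit_right ht
  have hst' : IsUnit (f' (MvPolynomial.X s * MvPolynomial.X t)) := by
    rw [map_mul]
    refine IsUnit.mul ?_ ht
    rw [hc 1 _ (X_mem s), pow_one]
    exact hcu.mul hs
  rw [pt_mul f (X_mem s) Nat.one_pos (X_mem t) rfl hs hst, pt_mul f' (X_mem t) Nat.one_pos (X_mem s) (mul_comm _ _) ht hst']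
  exact pt_congr f c hc hcu _ _ _ _

theorem pt_preimage_basicOpen (s t : Fin (n + 1)) (hs : f (MvPolynomial.X s) = 1)
    (hu : IsUnit (f (MvPolynomial.X s))) :
    pt f (MvPolynomial.X s) (X_mem s) Nat.one_pos hu ⁻¹ᵁ
        Proj.basicOpen (CohB1.polyGrading n K) (MvPolynomial.X t) =
      PrimeSpectrum.basicOpen (f (MvPolynomial.X t)) := by
  rw [pt, Scheme.Hom.comp_preimage, Proj.awayι_preimage_basicOpen (CohB1.polyGrading n K) (X_mem s) Nat.one_pos (X_mem t) Nat.one_pos]
  have h := φ_mk f (X_mem s) hu 1 (MvPolynomial.X t ^ 1) (by rw [one_smul, pow_one]; exact X_mem t)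
  simp only [hs, one_pow, mul_one, map_pow, pow_one] at h
  rw [← h, SpecMap_preimage_basicOpen]
  congr 2
  exact HomogeneousLocalization.val_injective _ (by simp)

theorem eval_smul {A : Type u} [CommRing A] (g : K →+* A) (v : Fin (n + 1) → A) (c : A) {d : ℕ}
    {p : MvPolynomial (Fin (n + 1)) K} (hp : p ∈ CohB1.polyGrading n K d) :
    MvPolynomial.eval₂Hom g (fun i => c * v i) p = c ^ d * MvPolynomial.eval₂Hom g v p := by
  have hp' : p.IsHomogeneous d := hp
  rw [p.as_sum, map_sum, map_sum, Finset.mul_sum]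
  refine Finset.sum_congr rfl fun e he => ?_
  have hdeg : ∑ j ∈ e.support, e j = d := by
    have := hp' (MvPolynomial.mem_support_iff.1 he)
    rwa [Finsupp.weight_apply, Finsupp.sum, Finset.sum_congr rfl fun j _ => (by simp : e j • (1 : Fin (n + 1) → ℕ) j = e j)] at this
  rw [MvPolynomial.eval₂Hom_monomial, MvPolynomial.eval₂Hom_monomial, Finsupp.prod, Finsupp.prod,
    ← hdeg, ← Finset.prod_pow_eq_pow_sum]
  simp only [mul_pow, Finset.prod_mul_distrib]
  ring

end Groth.Agent.GrassX.ProjPt
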