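import Mathlib.AlgebraicGeometry.Morphisms.ClosedImmersion
import Mathlib.AlgebraicGeometry.Cover.Open
import Mathlib.AlgebraicGeometry.Gluing

/-!
# Morphisms of schemes from natural maps on affine points
-/

set_option autoImplicit false

universe u

open CategoryTheory Limits AlgebraicGeometry

namespace Groth.Agent.GrassX

variable {X Y : Scheme.{u}}

/-- A natural map from affine points of `Y` to affine points of `X`. -/
structure PtMap (Y X : Scheme.{u}) where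
  app : ∀ {A : CommRingCat.{u}}, (Spec A ⟶ Y) → (Spec A ⟶ X)
  nat : ∀ {A B : CommRingCat.{u}} (φ : A ⟶ B) (a : Spec A ⟶ Y), app (Spec.map φ ≫ a) = Spec.map φ ≫ app a

theorem hom_ext_pt {f g : Y ⟶ X} (h : ∀ (A : CommRingCat.{u}) (a : Spec A ⟶ Y), a ≫ f = a ≫ g) : f = g :=
  Y.affineCover.hom_ext _ _ fun _ => h _ _

/-- A natural map on affine points is induced by a morphism. -/
theorem PtMap.exists_hom (F : PtMap Y X) : ∃ f : Y ⟶ X, ∀ (A : CommRingCat.{u}) (a : Spec A ⟶ Y), a ≫ f = F.app a := by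
  have key : ∀ (U V : Y.affineOpens) {A : CommRingCat.{u}} (p : Spec A ⟶ Spec Γ(Y, U.1)) (q : Spec A ⟶ Spec Γ(Y, V.1)),
      p ≫ U.2.fromSpec = q ≫ V.2.fromSpec → p ≫ F.app U.2.fromSpec = q ≫ F.app V.2.fromSpec := by
    intro U V A p q h
    obtain ⟨φ, rfl⟩ : ∃ φ, Spec.map φ = p := ⟨Spec.preimage p, Spec.map_preimage p⟩
    obtain ⟨ψ, rfl⟩ : ∃ ψ, Spec.map ψ = q := ⟨Spec.preimage q, Spec.map_preimage q⟩
    rw [← F.nat, ← F.nat, h]
  let 𝒰 := Y.openCoverOfIsOpenCover (fun U : Y.affineOpens => U.1) (iSup_affineOpens_eq_top Y)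
  have agree : ∀ U V : Y.affineOpens, pullback.fst U.1.ι V.1.ι ≫ (U.2.isoSpec.hom ≫ F.app U.2.fromSpec) =
      pullback.snd U.1.ι V.1.ι ≫ (V.2.isoSpec.hom ≫ F.app V.2.fromSpec) := by
    intro U V
    refine hom_ext_pt fun A a => ?_
    have := key U V (a ≫ pullback.fst U.1.ι V.1.ι ≫ U.2.isoSpec.hom)
      (a ≫ pullback.snd U.1.ι V.1.ι ≫ V.2.isoSpec.hom) (by
        simp only [Category.assoc, IsAffineOpen.isoSpec_hom_fromSpec]
        exact congrArg (a ≫ ·) pullback.condition)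
    simpa only [Category.assoc] using this
  let g := 𝒰.glueMorphisms _ agree
  have hg : ∀ U : Y.affineOpens, U.1.ι ≫ g = U.2.isoSpec.hom ≫ F.app U.2.fromSpec := fun U =>
    Scheme.Cover.ι_glueMorphisms 𝒰 _ agree U
  refine ⟨g, fun A a => ?_⟩
  suffices main : ∀ (U : Y.affineOpens) (B : CommRingCat.{u}) (b : Spec B ⟶ pullback a U.1.ι),
      b ≫ pullback.fst a U.1.ι ≫ a ≫ g = b ≫ pullback.fst a U.1.ι ≫ F.app a from
    Scheme.Cover.hom_ext (𝒰.pullback₁ a) _ _ fun U => hom_ext_pt fun B b => main U B b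
  intro U B b
  let fs := pullback.fst a U.1.ι
  let sn := pullback.snd a U.1.ι
  have hcond : fs ≫ a = sn ≫ U.1.ι := pullback.condition
  obtain ⟨φ, hφ⟩ : ∃ φ, Spec.map φ = b ≫ fs := ⟨Spec.preimage _, Spec.map_preimage _⟩
  obtain ⟨ψ, hψ⟩ : ∃ ψ, Spec.map ψ = b ≫ sn ≫ U.2.isoSpec.hom :=
    ⟨Spec.preimage _, Spec.map_preimage _⟩
  have hc : Spec.map φ ≫ a = Spec.map ψ ≫ U.2.fromSpec := by
    rw [hφ, hψ, Category.assoc, Category.assoc, Category.assoc, IsAffineOpen.isoSpec_hom_fromSpec, hcond]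
  show b ≫ fs ≫ a ≫ g = b ≫ fs ≫ F.app a
  rw [← Category.assoc fs a g, hcond, Category.assoc, hg, ← Category.assoc sn, ← Category.assoc b, ← hψ, ← F.nat,
    ← hc, F.nat, hφ, Category.assoc]

/-- A morphism which is bijective on affine points is an isomorphism. -/
theorem isIso_of_bijective (f : Y ⟶ X)
    (h : ∀ (A : CommRingCat.{u}), Function.Bijective (fun a : Spec A ⟶ Y => a ≫ f)) : IsIso f := by
  choose inv hinv using fun (A : CommRingCat.{u}) (b : Spec A ⟶ X) => (h A).2 b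
  have hinv' : ∀ (A : CommRingCat.{u}) (b : Spec A ⟶ X), inv A b ≫ f = b := hinv
  obtain ⟨g, hg⟩ := PtMap.exists_hom (Y := X) (X := Y)
    { app := fun {A} b => inv A b
      nat := fun {A B} φ b => (h B).1 (by
        show _ ≫ f = (Spec.map φ ≫ inv A b) ≫ f
        rw [hinv', Category.assoc, hinv']) }
  refine ⟨g, hom_ext_pt fun A a => (h A).1 ?_, hom_ext_pt fun A b => ?_⟩
  · show (a ≫ f ≫ g) ≫ f = (a ≫ 𝟙 Y) ≫ f
    rw [← Category.assoc a, hg, hinv', Category.comp_id]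
  · rw [← Category.assoc, hg, hinv', Category.comp_id]

end Groth.Agent.GrassX
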