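import Groth.Agent.GrassX.Coord
import Groth.Agent.GrassX.ProjPt
import Groth.Agent.GrassX.Yoneda
import Groth.Agent.GrassX.OverPt
import Mathlib.AlgebraicGeometry.Morphisms.ClosedImmersion

/-!
# The Plücker embedding of a Grassmannian
-/

set_option autoImplicit false
set_option backward.isDefEq.respectTransparency false
set_option linter.style.haveILetI false

universe u

open TensorProduct CategoryTheory Limits AlgebraicGeometry

namespace Groth.Agent.GrassX

open Synt29 Synt29.GrassGraph Synt29.RepOpen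
open Module (Grassmannian)

variable {R : Type u} [CommRing R] {n q N : ℕ} {X : Over (Spec (CommRingCat.of R))}
  {e : ∀ A : CommAlgCat.{u} R, (sp A ⟶ X) ≃ (Grassmannian.functor (R := R) (M := Fin n → R) q).obj A}

/-- The integers in the universe. -/
abbrev Zu : Type u := ULift.{u} ℤ

/-- The structure map from the integers. -/
noncomputable abbrev castZ (A : Type u) [CommRing A] : Zu.{u} →+* A :=
  (Int.castRingHom A).comp ULift.ringEquiv.toRingHom

theorem castZ_unique {A : Type u} [CommRing A] (g : Zu.{u} →+* A) : g = castZ A := by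
  refine RingHom.ext fun ⟨z⟩ => ?_
  exact RingHom.congr_fun (RingHom.ext_int (g.comp ULift.ringEquiv.symm.toRingHom) (Int.castRingHom A)) z

variable (idx : Fin (N + 1) ≃ Cols n q)

/-- The homogeneous coordinates of a point in a chart. -/
noncomputable def hc {A : Type u} [CommRing A] [Algebra R A] (S : Cols n q) (w : {c // c ∉ S.1} → S.1 → A) :
    MvPolynomial (Fin (N + 1)) Zu.{u} →+* A :=
  MvPolynomial.eval₂Hom (castZ A) fun i => plu R S w (idx i)

theorem hc_X {A : Type u} [CommRing A] [Algebra R A] (S : Cols n q) (w : {c // c ∉ S.1} → S.1 → A) (i : Fin (N + 1)) :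
    hc (R := R) idx S w (MvPolynomial.X i) = plu R S w (idx i) :=
  MvPolynomial.eval₂Hom_X' _ _ _

theorem hc_self {A : Type u} [CommRing A] [Algebra R A] (S : Cols n q) (w : {c // c ∉ S.1} → S.1 → A) :
    hc (R := R) idx S w (MvPolynomial.X (idx.symm S)) = 1 := by
  rw [hc_X, Equiv.apply_symm_apply, plu_self]

theorem hc_map {A B : Type u} [CommRing A] [Algebra R A] [CommRing B] [Algebra R B] (φ : A →ₐ[R] B) (S : Cols n q)
    (w : {c // c ∉ S.1} → S.1 → A) : φ.toRingHom.comp (hc (R := R) idx S w) = hc (R := R) idx S (fun c c' => φ (w c c')) := by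
  refine MvPolynomial.ringHom_ext (fun z => ?_) (fun i => ?_)
  · rw [RingHom.comp_apply, hc, hc, MvPolynomial.eval₂Hom_C, MvPolynomial.eval₂Hom_C, ← RingHom.comp_apply,
      castZ_unique (φ.toRingHom.comp (castZ A))]
  · rw [RingHom.comp_apply, hc_X, hc_X, plu_map]
    rfl

/-- The point of projective space attached to a point in a chart. -/
noncomputable def pl {A : Type u} [CommRing A] [Algebra R A] (S : Cols n q) (w : {c // c ∉ S.1} → S.1 → A) :
    Spec (CommRingCat.of A) ⟶ CohB1.ProjSpace N Zu.{u} :=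
  ProjPt.pt (hc (R := R) idx S w) (MvPolynomial.X (idx.symm S)) (ProjPt.X_mem _) Nat.one_pos
    (by rw [hc_self]; exact isUnit_one)

theorem SpecMap_pl {A B : Type u} [CommRing A] [Algebra R A] [CommRing B] [Algebra R B] (φ : A →ₐ[R] B) (S : Cols n q)
    (w : {c // c ∉ S.1} → S.1 → A) :
    Spec.map (CommRingCat.ofHom φ.toRingHom) ≫ pl (R := R) idx S w = pl (R := R) idx S (fun c c' => φ (w c c')) := by
  rw [pl, pl, ProjPt.SpecMap_pt]
  simp only [hc_map]

theorem pl_congr {A : Type u} [CommRing A] [Algebra R A] (S S' : Cols n q) (w : {c // c ∉ S.1} → S.1 → A)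
    (w' : {c // c ∉ S'.1} → S'.1 → A) (h : graph (R := R) S.1 S.2 w = graph S'.1 S'.2 w') :
    pl (R := R) idx S w = pl (R := R) idx S' w' := by
  refine ProjPt.pt_eq_pt _ (plu R S' w' S) (fun d p hp => ?_) (isUnit_plu S S' w w' h) _ _ _ _
  show hc (R := R) idx S' w' p = _
  rw [hc, hc, ← ProjPt.eval_smul (castZ A) (fun i => plu R S w (idx i)) _ hp,
    show (fun i => plu R S' w' (idx i)) = fun i => plu R S' w' S * plu R S w (idx i) from
      funext fun i => plu_trans S S' w w' h _]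

theorem pl_preimage {A : Type u} [CommRing A] [Algebra R A] (S T : Cols n q) (w : {c // c ∉ S.1} → S.1 → A) :
    pl (R := R) idx S w ⁻¹ᵁ Proj.basicOpen (CohB1.polyGrading N Zu.{u}) (MvPolynomial.X (idx.symm T)) =
      PrimeSpectrum.basicOpen (plu R S w T) := by
  rw [pl, ProjPt.pt_preimage_basicOpen _ _ _ (hc_self idx S w), hc_X, Equiv.apply_symm_apply]

theorem iSup_basicOpen_eq_top :
    ⨆ i, Proj.basicOpen (CohB1.polyGrading N Zu.{u}) (MvPolynomial.X i : MvPolynomial (Fin (N + 1)) Zu.{u}) = ⊤ := by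
  refine Proj.iSup_basicOpen_eq_top' _ _ (fun i => ⟨1, ProjPt.X_mem i⟩) ?_
  refine top_le_iff.1 fun p _ => ?_
  induction p using MvPolynomial.induction_on with
  | C r => exact Subalgebra.algebraMap_mem _ (⟨MvPolynomial.C r, MvPolynomial.isHomogeneous_C _ _⟩ : CohB1.polyGrading N Zu.{u} 0)
  | add a b ha hb => exact add_mem (ha trivial) (hb trivial)
  | mul_X a j ha => exact mul_mem (ha trivial) (Algebra.subset_adjoin ⟨j, rfl⟩)

variable (he : GrNat e)

include he in
theorem e_comp_emb (S : Cols n q) {A : CommAlgCat.{u} R} (g : sp A ⟶ sp (CommAlgCat.of R (MvPolynomial (Var S.1) R))) :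
    ∃ φ : MvPolynomial (Var S.1) R →ₐ[R] A, g.left = Spec.map (CommRingCat.ofHom φ.toRingHom) ∧
      e A (g ≫ emb e S.1 S.2) = graph (R := R) S.1 S.2 (fun c c' => φ (uX R S.1 c c')) := by
  obtain ⟨φ, rfl⟩ := exists_spMap g
  refine ⟨φ.hom, rfl, ?_⟩
  rw [he.isNat _ _ φ (emb e S.1 S.2), e_emb]
  exact map_graph φ.hom S.1 S.2 _

include he in
theorem exists_toProj :
    ∃ c : X.left ⟶ CohB1.ProjSpace N Zu.{u}, ∀ S : Cols n q, (emb e S.1 S.2).left ≫ c = pl (R := R) idx S (uX R S.1) := by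
  have hoi := fun S : Cols n q => isOpenImmersion_emb he S.1 S.2
  let U : Cols n q → X.left.Opens := fun S => (emb e S.1 S.2).left.opensRange
  have hU : ⨆ S, U S = ⊤ := eq_top_iff.2 fun x _ => by
    obtain ⟨S, hS, hx⟩ := exists_mem_emb he x
    exact TopologicalSpace.Opens.mem_iSup.2 ⟨⟨S, hS⟩, hx⟩
  let 𝒰 := X.left.openCoverOfIsOpenCover U hU
  let g : ∀ S, (U S).toScheme ⟶ CohB1.ProjSpace N Zu.{u} := fun S =>
    (emb e S.1 S.2).left.isoOpensRange.inv ≫ pl (R := R) idx S (uX R S.1)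
  have agree : ∀ S S', pullback.fst (U S).ι (U S').ι ≫ g S = pullback.snd (U S).ι (U S').ι ≫ g S' := by
    intro S S'
    refine hom_ext_pt fun A a => ?_
    let l := a ≫ pullback.fst (U S).ι (U S').ι ≫ (emb e S.1 S.2).left.isoOpensRange.inv
    let l' := a ≫ pullback.snd (U S).ι (U S').ι ≫ (emb e S'.1 S'.2).left.isoOpensRange.inv
    have hl : l ≫ (emb e S.1 S.2).left = l' ≫ (emb e S'.1 S'.2).left := by
      simp only [l, l', Category.assoc, Scheme.Hom.isoOpensRange_inv_comp]
      exact congrArg (a ≫ ·) pullback.condition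
    letI := algOf (l ≫ (sp (CommAlgCat.of R (MvPolynomial (Var S.1) R))).hom)
    let L : sp (CommAlgCat.of R A) ⟶ sp (CommAlgCat.of R (MvPolynomial (Var S.1) R)) :=
      Over.homMk l (algOf_map _).symm
    let L' : sp (CommAlgCat.of R A) ⟶ sp (CommAlgCat.of R (MvPolynomial (Var S'.1) R)) :=
      Over.homMk l' (by
        show l' ≫ (sp (CommAlgCat.of R (MvPolynomial (Var S'.1) R))).hom = _
        rw [← Over.w (emb e S'.1 S'.2), ← Category.assoc, ← hl, Category.assoc, Over.w]
        exact (algOf_map _).symm)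
    obtain ⟨φ, hφ, h1⟩ := e_comp_emb he S L
    obtain ⟨φ', hφ', h1'⟩ := e_comp_emb he S' L'
    have h2 : L ≫ emb e S.1 S.2 = L' ≫ emb e S'.1 S'.2 := Over.OverMorphism.ext hl
    rw [h2, h1'] at h1
    calc a ≫ pullback.fst (U S).ι (U S').ι ≫ g S
        = L.left ≫ pl (R := R) idx S (uX R S.1) := by simp [g, L, l]
      _ = pl (R := R) idx S (fun c c' => φ (uX R S.1 c c')) := by rw [hφ]; exact SpecMap_pl idx φ S _
      _ = pl (R := R) idx S' (fun c c' => φ' (uX R S'.1 c c')) := pl_congr idx S S' _ _ h1.symm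
      _ = L'.left ≫ pl (R := R) idx S' (uX R S'.1) := by rw [hφ']; exact (SpecMap_pl idx φ' S' _).symm
      _ = a ≫ pullback.snd (U S).ι (U S').ι ≫ g S' := by simp [g, L', l']
  refine ⟨𝒰.glueMorphisms g agree, fun S => ?_⟩
  have h : (U S).ι ≫ 𝒰.glueMorphisms g agree = g S := Scheme.Cover.ι_glueMorphisms 𝒰 g agree S
  rw [← Scheme.Hom.isoOpensRange_hom_ι (emb e S.1 S.2).left, Category.assoc, h]
  exact Iso.hom_inv_id_assoc _ _

include he in
theorem preimage_basicOpen (c : X.left ⟶ CohB1.ProjSpace N Zu.{u})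
    (hc' : ∀ S : Cols n q, (emb e S.1 S.2).left ≫ c = pl (R := R) idx S (uX R S.1)) (T : Cols n q) :
    (c ⁻¹ᵁ Proj.basicOpen (CohB1.polyGrading N Zu.{u}) (MvPolynomial.X (idx.symm T)) : Set X.left) =
      Set.range (emb e T.1 T.2).left := by
  refine Set.Subset.antisymm (fun x hx => ?_) ?_
  · obtain ⟨S, hS, y, rfl⟩ := exists_mem_emb he x
    let S' : Cols n q := ⟨S, hS⟩
    have hy : y ∈ (PrimeSpectrum.basicOpen (plu R S' (uX R S) T) : TopologicalSpace.Opens (PrimeSpectrum (MvPolynomial (Var S) R))) := by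
      rw [← pl_preimage idx S' T, ← hc' S']
      exact hx
    let L : CommAlgCat.{u} R := CommAlgCat.of R y.asIdeal.ResidueField
    let φ : MvPolynomial (Var S) R →ₐ[R] y.asIdeal.ResidueField := IsScalarTower.toAlgHom R _ _
    let p : sp L ⟶ sp (CommAlgCat.of R (MvPolynomial (Var S) R)) :=
      spOver (B := L) (CommAlgCat.ofHom φ)
    obtain ⟨ψ, hψ, h1⟩ := e_comp_emb he S' p
    have hψ' : ψ = φ := AlgHom.coe_ringHom_injective (congrArg CommRingCat.Hom.hom (Spec.map_injective hψ.symm))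
    subst hψ'
    have hin : InChart T.1 (e L (p ≫ emb e S hS)) := by
      rw [h1]
      refine inChart_of_isUnit S' T _ ?_
      rw [plu_map]
      refine isUnit_iff_ne_zero.2 fun h => hy ?_
      exact Ideal.algebraMap_residueField_eq_zero.1 h
    have hp : ∀ z, p.left z = y := fun z => by
      refine PrimeSpectrum.ext ?_
      show Ideal.comap (algebraMap _ y.asIdeal.ResidueField) z.asIdeal = _
      rw [show z.asIdeal = ⊥ from (congrArg PrimeSpectrum.asIdeal (Subsingleton.elim (α := PrimeSpectrum y.asIdeal.ResidueField) z ⊥))]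
      exact Ideal.ker_algebraMap_residueField y.asIdeal
    have := (mem_range_emb_iff he (Field.toIsField y.asIdeal.ResidueField) (p ≫ emb e S hS) ⟨⊥, Ideal.isPrime_bot⟩ T.1 T.2).2 hin
    rwa [Over.comp_left, Scheme.Hom.comp_apply, hp] at this
  · rintro _ ⟨y, rfl⟩
    show ((emb e T.1 T.2).left ≫ c) y ∈ (Proj.basicOpen (CohB1.polyGrading N Zu.{u}) (MvPolynomial.X (idx.symm T)) : (Proj _).Opens)
    rw [hc' T]
    refine (SetLike.ext_iff.1 (pl_preimage (R := R) idx T T (uX R T.1)) y).2 ?_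
    rw [plu_self, PrimeSpectrum.basicOpen_one]
    trivial

include he idx in
/-- The Plücker embedding. -/
theorem exists_plucker :
    ∃ c : X.left ⟶ CohB1.ProjSpaceOver N (Spec (CommRingCat.of R)),
      IsClosedImmersion c ∧ c ≫ CohB1.ProjSpaceOver.toBase N (Spec (CommRingCat.of R)) = X.hom := by
  obtain ⟨c₀, hc₀⟩ := exists_toProj idx he
  let c : X.left ⟶ CohB1.ProjSpaceOver N (Spec (CommRingCat.of R)) :=
    pullback.lift c₀ X.hom (specULiftZIsTerminal.hom_ext _ _)
  refine ⟨c, ?_, pullback.lift_snd _ _ _⟩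
  let fP : CohB1.ProjSpaceOver N (Spec (CommRingCat.of R)) ⟶ CohB1.ProjSpace N Zu.{u} := pullback.fst _ _
  let sP : CohB1.ProjSpaceOver N (Spec (CommRingCat.of R)) ⟶ Spec (CommRingCat.of R) := pullback.snd _ _
  have hcf : c ≫ fP = c₀ := pullback.lift_fst _ _ _
  have hcs : c ≫ sP = X.hom := pullback.lift_snd _ _ _
  let V : Cols n q → (CohB1.ProjSpaceOver N (Spec (CommRingCat.of R))).Opens := fun T =>
    fP ⁻¹ᵁ Proj.basicOpen (CohB1.polyGrading N Zu.{u}) (MvPolynomial.X (idx.symm T))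
  have hV : ⨆ T, V T = ⊤ := eq_top_iff.2 fun x _ => by
    have hx : fP x ∈ ⨆ i, Proj.basicOpen (CohB1.polyGrading N Zu.{u}) (MvPolynomial.X i : MvPolynomial (Fin (N + 1)) Zu.{u}) := by
      rw [iSup_basicOpen_eq_top]; trivial
    obtain ⟨i, hi⟩ := TopologicalSpace.Opens.mem_iSup.1 hx
    refine TopologicalSpace.Opens.mem_iSup.2 ⟨idx i, ?_⟩
    show fP x ∈ Proj.basicOpen (CohB1.polyGrading N Zu.{u}) (MvPolynomial.X (idx.symm (idx i)))
    rw [Equiv.symm_apply_apply]
    exact hi
  rw [IsZariskiLocalAtTarget.iff_of_iSup_eq_top (P := @IsClosedImmersion) V hV]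
  intro T
  let C := MvPolynomial (Var T.1) R
  let j : Spec (CommRingCat.of C) ⟶ X.left := (emb e T.1 T.2).left
  have hj : IsOpenImmersion j := isOpenImmersion_emb he T.1 T.2
  have hrange : (c ⁻¹ᵁ V T : Set X.left) = Set.range j := by
    refine Eq.trans ?_ (preimage_basicOpen idx he c₀ hc₀ T)
    rw [← hcf]
    rfl
  let i : Spec (CommRingCat.of C) ⟶ (V T).toScheme := IsOpenImmersion.lift (V T).ι (j ≫ c) (by
    rw [Scheme.Opens.range_ι]
    rintro _ ⟨y, rfl⟩
    show j y ∈ (c ⁻¹ᵁ V T : Set X.left)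
    rw [hrange]
    exact ⟨y, rfl⟩)
  have hi : i ≫ (V T).ι = j ≫ c := IsOpenImmersion.lift_fac _ _ _
  have hjV : j ⁻¹ᵁ (c ⁻¹ᵁ V T) = ⊤ := eq_top_iff.2 fun y _ => by
    show j y ∈ (c ⁻¹ᵁ V T : Set X.left)
    rw [hrange]
    exact ⟨y, rfl⟩
  have hpb : IsPullback i j (V T).ι c := IsOpenImmersion.isPullback i j (V T).ι c hi.symm (by
    rw [Scheme.Opens.opensRange_ι]
    exact TopologicalSpace.Opens.ext hrange)
  have hiso : i = hpb.isoPullback.hom ≫ pullback.fst (V T).ι c := hpb.isoPullback_hom_fst.symm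
  suffices hi' : IsClosedImmersion i by
    have h1 : IsClosedImmersion (pullback.fst (V T).ι c) := by
      rw [← MorphismProperty.cancel_left_of_respectsIso (P := @IsClosedImmersion) hpb.isoPullback.hom, ← hiso]
      exact hi'
    rw [show c ∣_ V T = ((pullbackRestrictIsoRestrict c (V T)).symm ≪≫ pullbackSymmetry c (V T).ι).hom ≫
        pullback.fst (V T).ι c by simp [morphismRestrict],
      MorphismProperty.cancel_left_of_respectsIso (P := @IsClosedImmersion)]
    exact h1
  have haff : IsAffine (V T).toScheme := by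
    have : IsAffineHom fP := by
      have : IsAffineHom (specULiftZIsTerminal.from (Spec (CommRingCat.of R))) := inferInstance
      exact MorphismProperty.pullback_fst _ _ this
    exact (Proj.isAffineOpen_basicOpen _ _ (ProjPt.X_mem _) Nat.one_pos).preimage fP
  refine IsClosedImmersion.of_surjective_of_isAffine i ?_
  -- the functions on the chart are generated
  let γ : Γ(Spec (CommRingCat.of C), ⊤) →+* C := (Scheme.ΓSpecIso (CommRingCat.of C)).hom.hom
  have hγ : Function.Injective γ := (ConcreteCategory.bijective_of_isIso (Scheme.ΓSpecIso (CommRingCat.of C)).hom).1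
  let Rg : Subring C := (γ.comp i.appTop.hom).range
  have hRg : ∀ {W : CommRingCat.{u}} (h : (V T).toScheme ⟶ Spec W) (ψ : W ⟶ CommRingCat.of C),
      i ≫ h = Spec.map ψ → ∀ z, ψ.hom z ∈ Rg := by
    intro W h ψ hh z
    refine ⟨h.appTop.hom ((Scheme.ΓSpecIso W).inv.hom z), ?_⟩
    have h3 := Scheme.ΓSpecIso_naturality ψ
    rw [← hh, Scheme.Hom.comp_appTop, Category.assoc] at h3
    have h4 := congrArg (fun t => t.hom ((Scheme.ΓSpecIso W).inv.hom z)) h3
    simp only [CommRingCat.hom_comp, RingHom.comp_apply, Iso.inv_hom_id_apply] at h4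
    exact h4
  have hR : ∀ r : R, algebraMap R C r ∈ Rg := by
    refine hRg ((V T).ι ≫ sP) (CommRingCat.ofHom (algebraMap R C)) ?_
    rw [reassoc_of% hi, hcs]
    exact Over.w (emb e T.1 T.2)
  have hU : ∀ v : Var T.1, (MvPolynomial.X v : C) ∈ Rg := by
    intro v
    obtain ⟨c', d'⟩ := v
    obtain ⟨T', ε, hε⟩ := exists_plu_eq (R := R) T (uX R T.1) c' d'
    let fP' : CohB1.ProjSpaceOver N (Spec (CommRingCat.of R)) ⟶ Proj (CohB1.polyGrading N Zu.{u}) := fP
    let h : (V T).toScheme ⟶ Spec (CommRingCat.of (HomogeneousLocalization.Away (CohB1.polyGrading N Zu.{u})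
        (MvPolynomial.X (idx.symm T)))) :=
      IsOpenImmersion.lift (Proj.awayι (CohB1.polyGrading N Zu.{u}) (MvPolynomial.X (idx.symm T)) (ProjPt.X_mem _) Nat.one_pos)
        ((V T).ι ≫ fP') (by
          rw [← Scheme.Hom.coe_opensRange (f := Proj.awayι (CohB1.polyGrading N Zu.{u}) (MvPolynomial.X (idx.symm T)) (ProjPt.X_mem _) Nat.one_pos), Proj.opensRange_awayι]
          rintro _ ⟨y, rfl⟩
          exact y.2)
    have hu : IsUnit (hc (R := R) idx T (uX R T.1) (MvPolynomial.X (idx.symm T))) := by rw [hc_self]; exact isUnit_one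
    have hh : i ≫ h = Spec.map (CommRingCat.ofHom (ProjPt.φ (hc (R := R) idx T (uX R T.1)) _ hu)) := by
      rw [← cancel_mono (Proj.awayι (CohB1.polyGrading N Zu.{u}) (MvPolynomial.X (idx.symm T)) (ProjPt.X_mem _) Nat.one_pos),
        Category.assoc, IsOpenImmersion.lift_fac]
      show i ≫ (V T).ι ≫ fP = pl (R := R) idx T (uX R T.1)
      rw [← Category.assoc, hi, Category.assoc, hcf]
      exact hc₀ T
    have hm := hRg h _ hh (HomogeneousLocalization.Away.mk _ (ProjPt.X_mem (idx.symm T)) 1 (MvPolynomial.X (idx.symm T')) (by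
      rw [one_smul]; exact ProjPt.X_mem _))
    have hval := ProjPt.φ_mk (hc (R := R) idx T (uX R T.1)) (ProjPt.X_mem (idx.symm T)) hu 1 (MvPolynomial.X (idx.symm T'))
      (by rw [one_smul]; exact ProjPt.X_mem _)
    rw [hc_self, one_pow, mul_one, hc_X, Equiv.apply_symm_apply, hε] at hval
    rw [CommRingCat.hom_ofHom, hval, Units.smul_def] at hm
    show uX R T.1 c' d' ∈ Rg
    rw [← one_smul ℤ (uX R T.1 c' d'), ← Int.units_coe_mul_self ε, mul_smul]
    exact Subring.zsmul_mem _ hm _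
  intro z
  have hz : γ z ∈ Rg := by
    have hall : ∀ p : C, p ∈ Rg := fun p => by
      induction p using MvPolynomial.induction_on with
      | C r => exact hR r
      | add a b ha hb => exact add_mem ha hb
      | mul_X a v ha => exact mul_mem ha (hU v)
    exact hall _
  obtain ⟨w, hw⟩ := hz
  exact ⟨w, hγ hw⟩

end Groth.Agent.GrassX
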