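import Mathlib.RingTheory.Smooth.StandardSmooth
import Mathlib.RingTheory.Extension.Presentation.Submersive

/-!
# Polynomial rings are standard smooth
-/

set_option autoImplicit false

universe u

namespace Groth.Agent.GrassX

theorem standardSmooth_mvPolynomial (R : Type u) [CommRing R] (σ : Type u) [Finite σ] {d : ℕ} (hd : Nat.card σ = d) :
    Algebra.IsStandardSmoothOfRelativeDimension d R (MvPolynomial σ R) := by
  let v : PEmpty.{1} → MvPolynomial σ R := PEmpty.elim
  let P₀ := Algebra.PreSubmersivePresentation.naive (v := v) PEmpty.elim (fun a => a.elim)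
  let S₀ : Algebra.SubmersivePresentation R (MvPolynomial σ R ⧸ Ideal.span (Set.range v)) σ PEmpty.{1} :=
    { P₀ with jacobian_isUnit := by simp [Algebra.PreSubmersivePresentation.jacobian_eq_jacobiMatrix_det] }
  let e : (MvPolynomial σ R ⧸ Ideal.span (Set.range v)) ≃ₐ[R] MvPolynomial σ R :=
    (Ideal.quotientEquivAlgOfEq R (by rw [Set.range_eq_empty, Ideal.span_empty])).trans (AlgEquiv.quotientBot R _)
  have := ((S₀.ofAlgEquiv e)).isStandardSmoothOfRelativeDimension (n := d) (by
    simp [Algebra.Presentation.dimension, hd])
  exact this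

end Groth.Agent.GrassX
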