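import Groth.Agent.GrassX.RepFree
import Groth.Agent.GrassX.Plucker
import Groth.Agent.GrassX.Locus
import Groth.Agent.PnCoh.Chow.Proper
import Groth.Prelude.Def_W4c1limliniiiiLG
import Groth.Agent.GrpSchLib.WeilClosed

/-!
# Linked Grassmannians are closed in a power of the Grassmannian, hence proper
-/

set_option autoImplicit false
set_option linter.style.haveILetI false
set_option backward.isDefEq.respectTransparency false

universe u

open CategoryTheory CategoryTheory.Limits AlgebraicGeometry TensorProduct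

namespace Groth.Agent.GrassX

open Synt29 Synt29.GrassGraph Synt29.RepOpen
open Module (Grassmannian)

variable {R : Type u} [CommRing R] {d q : ℕ}

theorem isProper_of_grassRep (hq : q ≤ d) {X : Over (Spec (CommRingCat.of R))}
    {e : ∀ A, (sp A ⟶ X) ≃ (Grassmannian.functor (R := R) (M := Fin d → R) q).obj A} (he : GrNat e) :
    IsProper X.hom := by
  have hcard : d.choose q - 1 + 1 = Fintype.card (Cols d q) := by
    rw [card_cols]
    have := Nat.choose_pos hq
    omega
  obtain ⟨c, hc, hc'⟩ := exists_plucker ((finCongr hcard).trans (Fintype.equivFin _).symm) he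
  haveI : IsProper (CohB1.ProjSpace.toSpec (d.choose q - 1) (ULift.{u} ℤ)) := PnCoh.Chow.isProper_toSpec _ _
  haveI : IsProper (CohB1.ProjSpaceOver.toBase (d.choose q - 1) (Spec (CommRingCat.of R))) :=
    MorphismProperty.pullback_snd _ _ inferInstance
  rw [← hc']
  exact MorphismProperty.comp_mem @IsProper _ _ inferInstance inferInstance

/-- Powers of the Grassmannian exist and are proper. -/
theorem exists_power (hq : q ≤ d) (m : ℕ) :
    ∃ (X : Over (Spec (CommRingCat.of R)))
      (e : ∀ A, (sp A ⟶ X) ≃ (Fin m → Grassmannian A (A ⊗[R] (Fin d → R)) q)),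
      (∀ (A B : CommAlgCat.{u} R) (φ : A ⟶ B) (g : sp A ⟶ X) (i : Fin m),
        e B (spOver φ ≫ g) i = Grassmannian.map φ.hom (e A g i)) ∧ IsProper X.hom := by
  induction m with
  | zero =>
    refine ⟨Over.mk (𝟙 _), fun A =>
      { toFun := fun _ i => i.elim0
        invFun := fun _ => Over.homMk (sp A).hom (Category.comp_id _)
        left_inv := fun g => Over.OverMorphism.ext (by
          have := Over.w g
          simpa using this.symm)
        right_inv := fun _ => funext fun i => i.elim0 }, fun A B φ g i => i.elim0,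
      (inferInstance : IsProper (𝟙 (Spec (CommRingCat.of R))))⟩
  | succ m ih =>
    obtain ⟨T, eT, hT, hTp⟩ := ih
    obtain ⟨G, eG, hG⟩ := exists_grassRep (R := R) d q
    have hGp := isProper_of_grassRep hq hG
    let P : Over (Spec (CommRingCat.of R)) := Over.mk (pullback.fst G.hom T.hom ≫ G.hom)
    let p₁ : P ⟶ G := Over.homMk (pullback.fst G.hom T.hom)
    let p₂ : P ⟶ T := Over.homMk (pullback.snd G.hom T.hom) pullback.condition.symm
    let pair : ∀ {W : Over (Spec (CommRingCat.of R))}, (W ⟶ G) → (W ⟶ T) → (W ⟶ P) := fun a b =>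
      Over.homMk (pullback.lift a.left b.left ((Over.w a).trans (Over.w b).symm))
        (by show pullback.lift _ _ _ ≫ _ ≫ _ = _; rw [pullback.lift_fst_assoc, Over.w])
    let E : ∀ A, (sp A ⟶ P) ≃ ((sp A ⟶ G) × (sp A ⟶ T)) := fun A =>
      { toFun := fun g => (g ≫ p₁, g ≫ p₂)
        invFun := fun ab => pair ab.1 ab.2
        left_inv := fun g => Over.OverMorphism.ext (pullback.hom_ext (pullback.lift_fst _ _ _) (pullback.lift_snd _ _ _))
        right_inv := fun ab => Prod.ext (Over.OverMorphism.ext (pullback.lift_fst _ _ _))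
          (Over.OverMorphism.ext (pullback.lift_snd _ _ _)) }
    refine ⟨P, fun A => (E A).trans (((eG A).prodCongr (eT A)).trans
      (Fin.consEquiv (fun _ : Fin (m + 1) => Grassmannian A (A ⊗[R] (Fin d → R)) q))),
      fun A B φ g i => ?_, ?_⟩
    · refine Fin.cases ?_ (fun j => ?_) i
      · show eG B ((spOver φ ≫ g) ≫ p₁) = Grassmannian.map φ.hom (eG A (g ≫ p₁))
        rw [Category.assoc, hG.isNat A B φ (g ≫ p₁)]
        rfl
      · show eT B ((spOver φ ≫ g) ≫ p₂) j = Grassmannian.map φ.hom (eT A (g ≫ p₂) j)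
        rw [Category.assoc, hT]
    · show IsProper (pullback.fst G.hom T.hom ≫ G.hom)
      haveI : IsProper (pullback.fst G.hom T.hom) := MorphismProperty.pullback_fst _ _ hTp
      exact MorphismProperty.comp_mem @IsProper _ _ inferInstance hGp

theorem map_le_iff_span {A B : Type u} [CommRing A] [Algebra R A] [CommRing B] [Algebra R B] (φ : A →ₐ[R] B)
    (f : (Fin d → R) →ₗ[R] (Fin d → R)) (N N' : Grassmannian A (A ⊗[R] (Fin d → R)) q) :
    (Grassmannian.map φ N).toSubmodule.map (f.baseChange B) ≤ (Grassmannian.map φ N').toSubmodule ↔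
      ∀ x ∈ N.toSubmodule, ι φ (f.baseChange A x) ∈ (Grassmannian.map φ N').toSubmodule := by
  rw [map_eq_span φ N, Submodule.map_span, Submodule.span_le]
  constructor
  · intro h x hx
    exact h ⟨_, ⟨x, hx, rfl⟩, (ι_baseChange φ f x).symm⟩
  · rintro h _ ⟨_, ⟨x, hx, rfl⟩, rfl⟩
    rw [← ι_baseChange]
    exact h x hx

/-- The universal ideal of linking two members. -/
theorem exists_ideal_map_le {A : Type u} [CommRing A] [Algebra R A] (f : (Fin d → R) →ₗ[R] (Fin d → R))
    (N N' : Grassmannian A (A ⊗[R] (Fin d → R)) q) :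
    ∃ I : Ideal A, ∀ (C : Type u) [CommRing C] [Algebra R C] (φ : A →ₐ[R] C),
      (Grassmannian.map φ N).toSubmodule.map (f.baseChange C) ≤ (Grassmannian.map φ N').toSubmodule ↔
        I ≤ RingHom.ker φ.toRingHom := by
  let J : Set ((A ⊗[R] (Fin d → R)) ⧸ N'.toSubmodule) :=
    (fun x => N'.toSubmodule.mkQ (f.baseChange A x)) '' (N.toSubmodule : Set _)
  obtain ⟨I, hI⟩ := GrpSchLib.exists_contentIdeal_of_projective (A := A) J
  refine ⟨I, fun C _ _ φ => ?_⟩
  letI : Algebra A C := φ.toRingHom.toAlgebra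
  haveI : IsScalarTower R A C := IsScalarTower.of_algebraMap_eq' φ.comp_algebraMap.symm
  rw [map_le_iff_span]
  refine Iff.trans ?_ (hI C)
  have key : ∀ y : A ⊗[R] (Fin d → R), Grassmannian.baseChangeMkQ C N'.toSubmodule (ι φ y) =
      (1 : C) ⊗ₜ[A] N'.toSubmodule.mkQ y := fun y => by
    induction y with
    | zero => simp
    | tmul a m =>
      rw [ι_tmul, ← mul_one (φ a), ← smul_eq_mul, ← smul_tmul', map_smul,
        show a ⊗ₜ[R] m = a • ((1 : A) ⊗ₜ[R] m) by rw [smul_tmul', smul_eq_mul, mul_one], map_smul, tmul_smul]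
      simp only [Grassmannian.baseChangeMkQ, LinearMap.comp_apply, LinearEquiv.coe_coe,
        AlgebraTensorModule.cancelBaseChange_symm_tmul, LinearMap.baseChange_tmul]
      exact (algebraMap_smul C a _)
    | add x y hx hy => rw [map_add, map_add, map_add, tmul_add, hx, hy]
  rw [Grassmannian.map_toSubmodule]
  constructor
  · rintro h _ ⟨x, hx, rfl⟩
    rw [← key]
    exact h x hx
  · intro h x hx
    rw [LinearMap.mem_ker, key]
    exact h _ ⟨x, hx, rfl⟩

open W4c1limliniiii in
/-- The linked Grassmannian exists and is proper. -/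
theorem exists_linked (r n : ℕ) (f g : Fin n → ((Fin d → R) →ₗ[R] (Fin d → R))) :
    ∃ (X : Over (Spec (CommRingCat.of R))) (e : ∀ A : CommAlgCat.{u} R, (sp A ⟶ X) ≃ LGPoints R d r n f g A),
      (∀ (A B : CommAlgCat.{u} R) (φ : A ⟶ B) (x : sp A ⟶ X) (i : Fin (n + 1)),
        (e B (spOver φ ≫ x)).1 i = Grassmannian.map φ.hom ((e A x).1 i)) ∧ IsProper X.hom := by
  obtain ⟨T, eT, hT, hTp⟩ := exists_power (R := R) (Nat.sub_le d r) (n + 1)
  let P : ∀ {A : Type u} [CommRing A], (Spec (CommRingCat.of A) ⟶ T.left) → Prop := fun {A} _ a =>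
    ∀ (alg : Algebra R A) (w : a ≫ T.hom = Spec.map (CommRingCat.ofHom (@algebraMap R A _ _ alg))),
      eT (@CommAlgCat.of R _ A _ alg) (Over.homMk a w) ∈ LGPoints R d r n f g A
  have P_iff : ∀ (A : CommAlgCat.{u} R) (x : sp A ⟶ T), P x.left ↔ eT A x ∈ LGPoints R d r n f g A := by
    intro A x
    refine ⟨fun h => h A.algebra (Over.w x), fun h alg w => ?_⟩
    obtain rfl : alg = A.algebra := Algebra.algebra_ext _ _ fun c => by
      exact RingHom.congr_fun (congrArg CommRingCat.Hom.hom (Spec.map_inj.1 (w.symm.trans (Over.w x)))) c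
    exact h
  have hP : ∀ {A : Type u} [CommRing A] (a : Spec (CommRingCat.of A) ⟶ T.left), ∃ I : Ideal A, HasI T.left P a I := by
    intro A _ a
    letI algA : Algebra R A := algOf (A := CommRingCat.of A) (a ≫ T.hom)
    let a' : sp (CommAlgCat.of R A) ⟶ T := Over.homMk a (algOf_map (A := CommRingCat.of A) (a ≫ T.hom)).symm
    choose I hI using fun i : Fin n => exists_ideal_map_le (f i) (eT _ a' i.castSucc) (eT _ a' i.succ)
    choose J hJ using fun i : Fin n => exists_ideal_map_le (g i) (eT _ a' i.succ) (eT _ a' i.castSucc)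
    refine ⟨⨆ i, I i ⊔ J i, fun C _ φ => ?_⟩
    letI : Algebra R C := (φ.comp (algebraMap R A)).toAlgebra
    let φ' : A →ₐ[R] C := { φ with commutes' := fun _ => rfl }
    rw [show Spec.map (CommRingCat.ofHom φ) ≫ a =
      (spOver (A := CommAlgCat.of R A) (B := CommAlgCat.of R C) (CommAlgCat.ofHom φ') ≫ a').left from rfl]
    refine Iff.trans (P_iff (CommAlgCat.of R C) (spOver (A := CommAlgCat.of R A) (B := CommAlgCat.of R C) (CommAlgCat.ofHom φ') ≫ a')) ?_
    rw [iSup_le_iff]
    refine forall_congr' fun i => ?_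
    rw [hT, hT, sup_le_iff]
    exact and_congr (hI i C φ') (hJ i C φ')
  obtain ⟨Z, j, hj, hfac⟩ := exists_closedImmersion T.left P hP
  have := hj
  let X : Over (Spec (CommRingCat.of R)) := Over.mk (j ≫ T.hom)
  let j' : X ⟶ T := Over.homMk j
  let F : ∀ A : CommAlgCat.{u} R, (sp A ⟶ X) → LGPoints R d r n f g A := fun A x =>
    ⟨eT A (x ≫ j'), (P_iff A _).1 ((hfac A _).1 ⟨x.left, rfl⟩)⟩
  have hF : ∀ A, Function.Bijective (F A) := by
    intro A
    constructor
    · intro x y h
      have h1 : x ≫ j' = y ≫ j' := (eT A).injective (congrArg Subtype.val h)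
      have h2 : x.left ≫ j = y.left ≫ j := congrArg CommaMorphism.left h1
      exact Over.OverMorphism.ext ((cancel_mono j).1 h2)
    · rintro ⟨V, hV⟩
      let p := (eT A).symm V
      obtain ⟨h, hh⟩ := (hfac A p.left).2 ((P_iff A p).2 (by rw [Equiv.apply_symm_apply]; exact hV))
      have hg : h ≫ X.hom = Spec.map (CommRingCat.ofHom (algebraMap R A)) := by
        show h ≫ j ≫ T.hom = _
        rw [← Category.assoc, hh]
        exact Over.w p
      let x : sp A ⟶ X := Over.homMk h hg
      refine ⟨x, Subtype.ext ?_⟩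
      show eT A (x ≫ j') = V
      rw [show x ≫ j' = p from Over.OverMorphism.ext hh, Equiv.apply_symm_apply]
  refine ⟨X, fun A => Equiv.ofBijective _ (hF A), fun A B φ x i => ?_, ?_⟩
  · show eT B ((spOver φ ≫ x) ≫ j') i = Grassmannian.map φ.hom (eT A (x ≫ j') i)
    rw [Category.assoc, hT]
  · haveI : IsProper T.hom := hTp
    exact MorphismProperty.comp_mem @IsProper _ _ inferInstance inferInstance

end Groth.Agent.GrassX
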