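import Groth.Agent.GrpSchLib.WeilClosed
import Mathlib.RingTheory.Grassmannian

/-!
# Pulling Grassmannian points back along a surjection
-/

set_option autoImplicit false
set_option linter.style.haveILetI false

universe u

open TensorProduct

namespace Groth.Agent.GrassX

open Module (Grassmannian)

variable {R : Type u} [CommRing R] {M M' : Type u} [AddCommGroup M] [Module R M] [AddCommGroup M'] [Module R M']
  (w : M →ₗ[R] M') {q : ℕ}

section

variable {A : Type u} [CommRing A] [Algebra R A]

theorem mkQ_comp_surjective (hw : Function.Surjective w) (N : Submodule A (A ⊗[R] M')) :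
    Function.Surjective (N.mkQ.comp (w.baseChange A)) :=
  N.mkQ_surjective.comp (LinearMap.baseChange_surjective A hw)

/-- The quotient by a preimage is the quotient. -/
noncomputable def pullEquiv (hw : Function.Surjective w) (N : Submodule A (A ⊗[R] M')) :
    ((A ⊗[R] M) ⧸ N.comap (w.baseChange A)) ≃ₗ[A] (A ⊗[R] M') ⧸ N :=
  (Submodule.quotEquivOfEq _ _ (by rw [LinearMap.ker_comp, Submodule.ker_mkQ])).trans
    ((N.mkQ.comp (w.baseChange A)).quotKerEquivOfSurjective (mkQ_comp_surjective w hw N))

theorem pullEquiv_mk (hw : Function.Surjective w) (N : Submodule A (A ⊗[R] M')) (x : A ⊗[R] M) :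
    pullEquiv w hw N (Submodule.Quotient.mk x) = Submodule.Quotient.mk (w.baseChange A x) := rfl

/-- The preimage of a point of the Grassmannian. -/
noncomputable def pull (hw : Function.Surjective w) (N : Grassmannian A (A ⊗[R] M') q) :
    Grassmannian A (A ⊗[R] M) q where
  toSubmodule := N.toSubmodule.comap (w.baseChange A)
  finite_quotient := Module.Finite.equiv (pullEquiv w hw N.toSubmodule).symm
  projective_quotient := Module.Projective.of_equiv (pullEquiv w hw N.toSubmodule).symm
  rankAtStalk_eq p := by
    rw [Module.rankAtStalk_eq_of_equiv (pullEquiv w hw N.toSubmodule)]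
    exact N.rankAtStalk_eq p

theorem pull_toSubmodule (hw : Function.Surjective w) (N : Grassmannian A (A ⊗[R] M') q) :
    (pull w hw N).toSubmodule = N.toSubmodule.comap (w.baseChange A) := rfl

theorem pull_injective (hw : Function.Surjective w) :
    Function.Injective (pull (A := A) (q := q) w hw) := fun N N' h =>
  Grassmannian.ext (Submodule.comap_injective_of_surjective (LinearMap.baseChange_surjective A hw)
    (congrArg Module.Grassmannian.toSubmodule h))

theorem exists_pull_eq (hw : Function.Surjective w) (N : Grassmannian A (A ⊗[R] M) q)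
    (h : LinearMap.ker (w.baseChange A) ≤ N.toSubmodule) : ∃ N', pull w hw N' = N := by
  have hs := LinearMap.baseChange_surjective A hw
  let S := N.toSubmodule.map (w.baseChange A)
  have hc : S.comap (w.baseChange A) = N.toSubmodule := by
    rw [Submodule.comap_map_eq, sup_eq_left.2 h]
  let i : ((A ⊗[R] M) ⧸ N.toSubmodule) ≃ₗ[A] (A ⊗[R] M') ⧸ S :=
    (Submodule.quotEquivOfEq _ _ hc.symm).trans (pullEquiv w hw S)
  exact ⟨{ toSubmodule := S
           finite_quotient := Module.Finite.equiv i
           projective_quotient := Module.Projective.of_equiv i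
           rankAtStalk_eq := fun p => by
             rw [← Module.rankAtStalk_eq_of_equiv i]
             exact N.rankAtStalk_eq p }, Grassmannian.ext hc⟩

variable {B : Type u} [CommRing B] [Algebra R B]

theorem map_pull (hw : Function.Surjective w) (φ : A →ₐ[R] B) (N : Grassmannian A (A ⊗[R] M') q) :
    Grassmannian.map φ (pull w hw N) = pull w hw (Grassmannian.map φ N) := by
  letI : Algebra A B := φ.toRingHom.toAlgebra
  haveI : IsScalarTower R A B := IsScalarTower.of_algebraMap_eq' φ.comp_algebraMap.symm
  refine Grassmannian.ext ?_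
  rw [Grassmannian.map_toSubmodule, pull_toSubmodule, pull_toSubmodule, Grassmannian.map_toSubmodule]
  let i := (pullEquiv w hw N.toSubmodule).baseChange A B
  have key : (Grassmannian.baseChangeMkQ B N.toSubmodule).comp (w.baseChange B) =
      i.toLinearMap.comp (Grassmannian.baseChangeMkQ B (N.toSubmodule.comap (w.baseChange A))) := by
    refine TensorProduct.AlgebraTensorModule.ext fun b m => ?_
    simp [i, Grassmannian.baseChangeMkQ, pullEquiv_mk]
  rw [← LinearMap.ker_comp, key, LinearEquiv.ker_comp]

/-- The universal ideal of containing the kernel. -/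
theorem exists_ideal_ker_le (hw : Function.Surjective w) (N : Grassmannian A (A ⊗[R] M) q) :
    ∃ I : Ideal A, ∀ (C : Type u) [CommRing C] [Algebra R C] (φ : A →ₐ[R] C),
      LinearMap.ker (w.baseChange C) ≤ (Grassmannian.map φ N).toSubmodule ↔ I ≤ RingHom.ker φ.toRingHom := by
  let J : Set ((A ⊗[R] M) ⧸ N.toSubmodule) :=
    (fun m => N.toSubmodule.mkQ ((1 : A) ⊗ₜ[R] m)) '' (LinearMap.ker w : Set M)
  obtain ⟨I, hI⟩ := GrpSchLib.exists_contentIdeal_of_projective (A := A) J
  refine ⟨I, fun C _ _ φ => ?_⟩
  letI : Algebra A C := φ.toRingHom.toAlgebra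
  haveI : IsScalarTower R A C := IsScalarTower.of_algebraMap_eq' φ.comp_algebraMap.symm
  refine Iff.trans ?_ (hI C)
  rw [Grassmannian.map_toSubmodule]
  have key : ∀ m : M, Grassmannian.baseChangeMkQ C N.toSubmodule ((1 : C) ⊗ₜ[R] m) =
      (1 : C) ⊗ₜ[A] N.toSubmodule.mkQ ((1 : A) ⊗ₜ[R] m) := fun m => by
    simp [Grassmannian.baseChangeMkQ]
  constructor
  · rintro h _ ⟨m, hm, rfl⟩
    rw [← key]
    exact h (by rw [LinearMap.mem_ker, LinearMap.baseChange_tmul, LinearMap.mem_ker.1 hm, TensorProduct.tmul_zero])
  · intro h z hz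
    have hz' : (w.lTensor C) z = 0 := hz
    obtain ⟨y, rfl⟩ := (lTensor_exact C (LinearMap.exact_subtype_ker_map w) hw z).1 hz'
    clear hz hz'
    induction y with
    | zero => simp
    | tmul c m =>
      rw [LinearMap.lTensor_tmul, show c ⊗ₜ[R] ((LinearMap.ker w).subtype m) = c • ((1 : C) ⊗ₜ[R] (m : M)) by
        rw [TensorProduct.smul_tmul', smul_eq_mul, mul_one]; rfl]
      refine Submodule.smul_mem _ _ ?_
      rw [LinearMap.mem_ker, key]
      exact h _ ⟨m, m.2, rfl⟩
    | add x y hx hy => rw [map_add]; exact add_mem hx hy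

end

end Groth.Agent.GrassX
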