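import Groth.Agent.GrassX.Pull
import Groth.Agent.GrassX.OverPt
import Groth.Agent.GrassX.Locus

/-!
# Grassmannians of quotient modules are closed subschemes
-/

set_option autoImplicit false
set_option linter.style.haveILetI false

universe u

open CategoryTheory AlgebraicGeometry TensorProduct

namespace Groth.Agent.GrassX

open Module (Grassmannian)

variable {R : Type u} [CommRing R] {M₁ M₂ : Type u} [AddCommGroup M₁] [Module R M₁]
  [AddCommGroup M₂] [Module R M₂] (v : M₁ →ₗ[R] M₂) {k : ℕ} {X₁ X₂ : Over (Spec (CommRingCat.of R))}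
  (e₁ : ∀ A : CommAlgCat.{u} R, (bpt A ⟶ X₁) ≃ (Grassmannian.functor (R := R) (M := M₁) k).obj A)

/-- Containing the kernel, at a point with values in a ring. -/
def KerLe {A : Type u} [CommRing A] (a : Spec (CommRingCat.of A) ⟶ X₁.left) : Prop :=
  ∀ (alg : Algebra R A) (w : a ≫ X₁.hom = Spec.map (CommRingCat.ofHom (@algebraMap R A _ _ alg))),
    LinearMap.ker (v.baseChange A) ≤ (e₁ (@CommAlgCat.of R _ A _ alg) (Over.homMk a w)).toSubmodule

theorem kerLe_iff {A : Type u} [CommRing A] [alg : Algebra R A] (a : Spec (CommRingCat.of A) ⟶ X₁.left)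
    (w : a ≫ X₁.hom = Spec.map (CommRingCat.ofHom (algebraMap R A))) :
    KerLe v e₁ a ↔ LinearMap.ker (v.baseChange A) ≤ (e₁ (CommAlgCat.of R A) (Over.homMk a w)).toSubmodule := by
  refine ⟨fun h => h alg w, fun h alg' w' => ?_⟩
  obtain rfl : alg' = alg := Algebra.algebra_ext _ _ fun r => by
    exact RingHom.congr_fun (congrArg CommRingCat.Hom.hom (Spec.map_inj.1 (w'.symm.trans w))) r
  exact h

variable (he₁ : ∀ (A B : CommAlgCat.{u} R) (φ : A ⟶ B) (g : bpt A ⟶ X₁) (g' : bpt B ⟶ X₁),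
  g'.left = Spec.map (CommRingCat.ofHom φ.hom.toRingHom) ≫ g.left →
    e₁ B g' = (Grassmannian.functor (R := R) (M := M₁) k).map φ (e₁ A g))

include he₁ in
theorem exists_hasI_kerLe (hv : Function.Surjective v) {A : Type u} [CommRing A]
    (a : Spec (CommRingCat.of A) ⟶ X₁.left) :
    ∃ I : Ideal A, HasI X₁.left (fun {A} _ => KerLe v e₁ (A := A)) a I := by
  letI algA : Algebra R A := algOf (A := CommRingCat.of A) (a ≫ X₁.hom)
  have wA : a ≫ X₁.hom = Spec.map (CommRingCat.ofHom (algebraMap R A)) := (algOf_map (A := CommRingCat.of A) (a ≫ X₁.hom)).symm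
  obtain ⟨I, hI⟩ := exists_ideal_ker_le v hv (e₁ (CommAlgCat.of R A) (Over.homMk a wA))
  refine ⟨I, fun C _ φ => ?_⟩
  letI : Algebra R C := (φ.comp (algebraMap R A)).toAlgebra
  let φ' : A →ₐ[R] C := { φ with commutes' := fun _ => rfl }
  have wC : (Spec.map (CommRingCat.ofHom φ) ≫ a) ≫ X₁.hom = Spec.map (CommRingCat.ofHom (algebraMap R C)) := by
    rw [Category.assoc, wA, ← Spec.map_comp]
    rfl
  show KerLe v e₁ _ ↔ _
  rw [kerLe_iff v e₁ _ wC, he₁ (CommAlgCat.of R A) (CommAlgCat.of R C) (CommAlgCat.ofHom φ')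
    (Over.homMk a wA) (Over.homMk _ wC) rfl]
  exact hI C φ'

variable (e₂ : ∀ A : CommAlgCat.{u} R, (bpt A ⟶ X₂) ≃ (Grassmannian.functor (R := R) (M := M₂) k).obj A)
  (he₂ : ∀ (A B : CommAlgCat.{u} R) (φ : A ⟶ B) (g : bpt A ⟶ X₂) (g' : bpt B ⟶ X₂),
    g'.left = Spec.map (CommRingCat.ofHom φ.hom.toRingHom) ≫ g.left →
      e₂ B g' = (Grassmannian.functor (R := R) (M := M₂) k).map φ (e₂ A g))

theorem bpt_w {X : Over (Spec (CommRingCat.of R))} {A B : CommAlgCat.{u} R} (φ : A ⟶ B) (g : bpt A ⟶ X) :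
    (Spec.map (CommRingCat.ofHom φ.hom.toRingHom) ≫ g.left) ≫ X.hom =
      Spec.map (CommRingCat.ofHom (algebraMap R B)) := by
  rw [Category.assoc, Over.w]
  show Spec.map _ ≫ Spec.map (CommRingCat.ofHom (algebraMap R A)) = _
  rw [← Spec.map_comp, ← CommRingCat.ofHom_comp]
  exact congrArg (fun t => Spec.map (CommRingCat.ofHom t)) φ.hom.comp_algebraMap

include he₁ he₂ in
theorem exists_pullHom (hv : Function.Surjective v) :
    ∃ c : X₂ ⟶ X₁, ∀ (A : CommAlgCat.{u} R) (g : bpt A ⟶ X₂), e₁ A (g ≫ c) = pull v hv (e₂ A g) := by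
  obtain ⟨c, hc⟩ := exists_overHom (fun A g => (e₁ A).symm (pull v hv (e₂ A g))) (fun A B φ g g' hg => by
    let h' : bpt B ⟶ X₁ := mkPt _ (bpt_w φ ((e₁ A).symm (pull v hv (e₂ A g))))
    have : (e₁ B).symm (pull v hv (e₂ B g')) = h' := by
      rw [Equiv.symm_apply_eq, he₁ A B φ ((e₁ A).symm (pull v hv (e₂ A g))) h' rfl, Equiv.apply_symm_apply,
        he₂ A B φ g g' hg]
      exact (map_pull v hv φ.hom _).symm
    rw [this]
    rfl)
  exact ⟨c, fun A g => by rw [hc, Equiv.apply_symm_apply]⟩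

include he₁ he₂ in
theorem isClosedImmersion_pullHom (hv : Function.Surjective v) (c : X₂ ⟶ X₁)
    (hc : ∀ (A : CommAlgCat.{u} R) (g : bpt A ⟶ X₂), e₁ A (g ≫ c) = pull v hv (e₂ A g)) :
    IsClosedImmersion c.left := by
  obtain ⟨Z, ι, hι, hfac⟩ := exists_closedImmersion X₁.left (fun {A} _ => KerLe v e₁ (A := A))
    (fun a => exists_hasI_kerLe v e₁ he₁ hv a)
  have := hι
  let Z' : Over (Spec (CommRingCat.of R)) := Over.mk (ι ≫ X₁.hom)
  let ι' : Z' ⟶ X₁ := Over.homMk ι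
  have hmem : ∀ (A : CommAlgCat.{u} R) (g : bpt A ⟶ X₂),
      ∃ h : Spec (CommRingCat.of A) ⟶ Z, h ≫ ι = (g ≫ c).left := fun A g => by
    refine (hfac A _).2 ((kerLe_iff v e₁ _ (Over.w (g ≫ c))).2 ?_)
    show _ ≤ (e₁ A (g ≫ c)).toSubmodule
    rw [hc, pull_toSubmodule]
    intro x hx
    rw [Submodule.mem_comap, LinearMap.mem_ker.1 hx]
    exact zero_mem _
  choose h hh using hmem
  let F : ∀ A : CommAlgCat.{u} R, (bpt A ⟶ X₂) → (bpt A ⟶ Z') := fun A g => mkPt (X := Z') (h A g) (by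
    show h A g ≫ ι ≫ X₁.hom = _
    rw [reassoc_of% (hh A g)]
    exact Over.w (g ≫ c))
  obtain ⟨d, hd⟩ := exists_overHom F (fun A B φ g g' hg => by
    show h B g' = _ ≫ h A g
    rw [← cancel_mono ι, Category.assoc, hh, hh, Over.comp_left, Over.comp_left, hg, Category.assoc])
  have hdι : d ≫ ι' = c := overHom_ext fun A g => by
    show g.left ≫ d.left ≫ ι = g.left ≫ c.left
    rw [← Category.assoc, ← Over.comp_left, hd]
    exact hh A g
  have hiso : IsIso d.left := isIso_of_bijective_pts d fun A => by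
    constructor
    · intro g g' hgg
      refine (e₂ A).injective (pull_injective v hv ?_)
      rw [← hc, ← hc, ← hdι, ← Category.assoc, show g ≫ d = g' ≫ d from hgg, Category.assoc]
    · intro g
      have hP : KerLe v e₁ (g ≫ ι').left := (hfac A _).1 ⟨g.left, rfl⟩
      have h1 : LinearMap.ker (v.baseChange A) ≤ (e₁ A (g ≫ ι')).toSubmodule :=
        (kerLe_iff v e₁ _ (Over.w (g ≫ ι'))).1 hP
      obtain ⟨N, hN⟩ := exists_pull_eq v hv _ h1
      refine ⟨(e₂ A).symm N, Over.OverMorphism.ext ?_⟩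
      rw [← cancel_mono ι]
      show ((((e₂ A).symm N) ≫ d) ≫ ι').left = (g ≫ ι').left
      rw [Category.assoc, hdι]
      congr 1
      exact (e₁ A).injective (by rw [hc, Equiv.apply_symm_apply, hN])
  rw [← hdι]
  exact (inferInstance : IsClosedImmersion (d.left ≫ ι))

end Groth.Agent.GrassX
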