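import Groth.Agent.GrassX.Atlas
import Groth.Agent.GrassX.Descent
import Groth.Agent.GrassX.Coord

/-!
# Representability of the Grassmannian of quotients of a free module
-/

set_option autoImplicit false
set_option linter.style.haveILetI false

universe u

open CategoryTheory AlgebraicGeometry TensorProduct

namespace Groth.Agent.GrassX

open Synt29 Synt29.GrassGraph Synt29.RepOpen
open Module (Grassmannian)

variable {R : Type u} [CommRing R]

theorem grass_sep {M : Type u} [AddCommGroup M] [Module R M] {q : ℕ} (A : CommAlgCat.{u} R) (s : Set A)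
    (hs : Ideal.span s = ⊤) (x y : (Grassmannian.functor (R := R) (M := M) q).obj A)
    (h : ∀ a ∈ s, (Grassmannian.functor (R := R) (M := M) q).map (toAway A a) x =
      (Grassmannian.functor (R := R) (M := M) q).map (toAway A a) y) : x = y :=
  Desc.ext_of_span s hs h

theorem grass_glue {M : Type u} [AddCommGroup M] [Module R M] {q : ℕ} (A : CommAlgCat.{u} R) (s : Set A)
    (hs : Ideal.span s = ⊤)
    (x : ∀ h : s, (Grassmannian.functor (R := R) (M := M) q).obj (CommAlgCat.of R (Localization.Away (h : A))))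
    (hx : ∀ (h h' : s) (C : CommAlgCat.{u} R) (φ : CommAlgCat.of R (Localization.Away (h : A)) ⟶ C)
      (φ' : CommAlgCat.of R (Localization.Away (h' : A)) ⟶ C), toAway A h ≫ φ = toAway A h' ≫ φ' →
        (Grassmannian.functor (R := R) (M := M) q).map φ (x h) =
          (Grassmannian.functor (R := R) (M := M) q).map φ' (x h')) :
    ∃ y, ∀ h : s, (Grassmannian.functor (R := R) (M := M) q).map (toAway A h) y = x h := by
  obtain ⟨t, hts, ht⟩ := (Ideal.span_eq_top_iff_finite s).1 hs
  obtain ⟨N, hN⟩ := Desc.exists_glue (R := R) (M := M) (t := t) (fun k => x ⟨k.1, hts k.2⟩)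
    (fun k k' C _ _ φ φ' hφ => hx ⟨k.1, hts k.2⟩ ⟨k'.1, hts k'.2⟩ (CommAlgCat.of R C) (CommAlgCat.ofHom φ)
      (CommAlgCat.ofHom φ') (CommAlgCat.hom_ext hφ)) ht
  refine ⟨N, fun h => ?_⟩
  refine grass_sep _ ((toAway A h).hom '' (t : Set A)) ?_ _ _ ?_
  · rw [show ((toAway A h).hom '' (t : Set A)) = (toAway A h).hom.toRingHom '' (t : Set A) from rfl,
      ← Ideal.map_span, ht, Ideal.map_top]
  · rintro _ ⟨k, hk, rfl⟩
    rw [← FunctorToTypes.map_comp_apply, ← Atlas.toAway_awayHom, FunctorToTypes.map_comp_apply]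
    refine Eq.trans (congrArg _ (hN ⟨k, hk⟩)) ?_
    exact hx ⟨k, hts hk⟩ h _ _ _ (Atlas.toAway_awayHom _ _)

variable (n q : ℕ)

/-- The standard atlas of the Grassmannian. -/
noncomputable def grassAtlas : Atlas (Grassmannian.functor (R := R) (M := Fin n → R) q) where
  I := ULift.{u} (Cols n q)
  c S := chart S.down.1 S.down.2
  d S T := plu R S.down (uX R S.down.1) T.down
  mem_iff S T {A} ψ := by
    show InChart T.down.1 (Grassmannian.map ψ.hom (graph (R := R) S.down.1 S.down.2 (uX R S.down.1))) ↔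
      IsUnit (ψ.hom (plu R S.down (uX R S.down.1) T.down))
    rw [map_graph, ← plu_map]
    refine ⟨fun h => ?_, inChart_of_isUnit S.down T.down _⟩
    obtain ⟨u', hu', -⟩ := h.exists_eq T.down.2
    exact isUnit_plu T.down S.down u' _ hu'.symm
  cover L hL x := by
    letI := hL.toField
    obtain ⟨S, hS, h⟩ := LG.exists_cols x
    exact ⟨⟨⟨S, hS⟩⟩, h⟩
  sep := grass_sep
  glue := grass_glue

/-- The Grassmannian of quotients of a free module exists. -/
theorem exists_grassRep :
    ∃ (X : Over (Spec (CommRingCat.of R)))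
      (e : ∀ A, (sp A ⟶ X) ≃ (Grassmannian.functor (R := R) (M := Fin n → R) q).obj A), GrNat e := by
  obtain ⟨X, e, he⟩ := Atlas.exists_rep (grassAtlas (R := R) n q)
  refine ⟨X, e, fun A B φ g g' hg => ?_⟩
  rw [← he A B φ g, show g' = spOver φ ≫ g from Over.OverMorphism.ext hg]

end Groth.Agent.GrassX
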